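import Groth.Agent.Stk19b.QuotTriv
import Groth.Agent.Stk19.FibGrpd

/-! Base change of objects of a quotient category `[X/G]`; `[X/G]` is fibred in groupoids. -/

set_option autoImplicit false
set_option backward.isDefEq.respectTransparency false
set_option backward.isDefEq.respectTransparency.types false

universe u

open CategoryTheory CategoryTheory.Limits AlgebraicGeometry MonoidalCategory CartesianMonoidalCategory MonObj GrpObj
open Groth.Agent.Stk19b.QuotTriv

namespace Groth.Agent.Stk19b.Quot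

variable {S : Scheme.{u}} {G X : Over S} [GrpObj G]

/-- A cartesian action square from simple transitivity on points. -/
theorem isPullback_of_existsUnique {P B : Over S} (a : AlgGrp.Action G P) (π : P ⟶ B)
    (w : a.act ≫ π = snd G P ≫ π)
    (h : ∀ {T : Over S} (p q : T ⟶ P), q ≫ π = p ≫ π → ∃! g : T ⟶ G, smulPt a g p = q) :
    IsPullback a.act (snd G P) π π := by
  refine ⟨⟨w⟩, ⟨PullbackCone.IsLimit.mk _
    (fun s => lift (h s.snd s.fst s.condition).exists.choose s.snd)
    (fun s => (h s.snd s.fst s.condition).exists.choose_spec) (fun s => lift_snd _ _) ?_⟩⟩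
  intro s m h1 h2
  have e : m = lift (m ≫ fst G P) s.snd := by
    apply CartesianMonoidalCategory.hom_ext
    · simp
    · rw [lift_snd, h2]
  refine e.trans (congrArg (fun g => lift g s.snd) ((h s.snd s.fst s.condition).unique ?_
    (h s.snd s.fst s.condition).exists.choose_spec))
  show lift (m ≫ fst G P) s.snd ≫ a.act = s.fst
  rw [← e, h1]

variable {K : Precoverage Scheme.{u}} {aX : AlgGrp.Action G X}

theorem locallyTrivial_of_section {P B : Over S} (π : P ⟶ B) [K.HasIsos] (s : B ⟶ P) (hs : s ≫ π = 𝟙 B) :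
    NonAbH1.IsLocallyTrivialFor K (Over.mk π.left : Over B.left) := by
  refine ⟨Presieve.singleton (𝟙 _), K.mem_coverings_of_isIso (𝟙 _), ?_⟩
  rintro S' f ⟨⟩
  refine ⟨s.left, ?_⟩
  have := congrArg CommaMorphism.left hs
  simpa using this

variable [K.IsStableUnderBaseChange]

theorem locallyTrivial_pullback (A : AlgSt.QuotObj K G aX) {T P : Over S} {f : T ⟶ A.base} {π : P ⟶ T}
    {q : P ⟶ A.P} (h : IsPullback q π A.π f) :
    NonAbH1.IsLocallyTrivialFor K (Over.mk π.left : Over T.left) := by
  obtain ⟨R, hR, hsec⟩ := A.loc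
  obtain ⟨I, Y, g, rfl⟩ := R.exists_eq_ofArrows
  refine ⟨Presieve.ofArrows (fun i => pullback f.left (g i)) (fun i => pullback.fst f.left (g i)),
    Precoverage.mem_coverings_of_isPullback g hR f.left _ (fun i => pullback.snd f.left (g i))
      (fun i => IsPullback.of_hasPullback _ _), ?_⟩
  rintro S' k ⟨i⟩
  obtain ⟨v, hv⟩ := hsec (g i) ⟨i⟩
  have h' := h.map (Over.forget S)
  refine ⟨h'.lift (pullback.snd f.left (g i) ≫ v) (pullback.fst f.left (g i)) ?_, ?_⟩
  · show (_ ≫ v) ≫ A.π.left = _ ≫ f.left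
    rw [Category.assoc]
    exact (congrArg (_ ≫ ·) hv).trans pullback.condition.symm
  · exact h'.lift_snd _ _ _

variable (A : AlgSt.QuotObj K G aX) {T : Over S} (f : T ⟶ A.base)

/-- The action on the base change. -/
noncomputable def pbAct : AlgGrp.Action G (pullback A.π f) where
  act := pullback.lift ((G ◁ pullback.fst A.π f) ≫ A.act.act) (snd G _ ≫ pullback.snd A.π f)
    (by rw [Category.assoc, A.cart.w, whiskerLeft_snd_assoc, pullback.condition, Category.assoc])
  one_act := by
    apply pullback.hom_ext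
    · rw [Category.assoc, pullback.lift_fst, ← MonoidalCategory.whisker_exchange_assoc, A.act.one_act,
        ← MonoidalCategory.leftUnitor_naturality]
    · rw [Category.assoc, pullback.lift_snd, whiskerRight_snd_assoc, leftUnitor_hom]
  mul_act := by
    apply pullback.hom_ext
    · rw [Category.assoc, pullback.lift_fst, ← MonoidalCategory.whisker_exchange_assoc, A.act.mul_act]
      simp only [Category.assoc, pullback.lift_fst, ← MonoidalCategory.whiskerLeft_comp_assoc]
      simp only [MonoidalCategory.whiskerLeft_comp, Category.assoc, MonoidalCategory.tensor_whiskerLeft,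
        Iso.inv_hom_id_assoc]
    · simp

theorem pbAct_smul_fst {Z : Over S} (g : Z ⟶ G) (p : Z ⟶ pullback A.π f) :
    smulPt (pbAct A f) g p ≫ pullback.fst A.π f = smulPt A.act g (p ≫ pullback.fst A.π f) := by
  show (lift g p ≫ (pbAct A f).act) ≫ _ = lift g (p ≫ _) ≫ A.act.act
  simp [pbAct, lift_whiskerLeft_assoc]

theorem pbAct_smul_snd {Z : Over S} (g : Z ⟶ G) (p : Z ⟶ pullback A.π f) :
    smulPt (pbAct A f) g p ≫ pullback.snd A.π f = p ≫ pullback.snd A.π f := by
  show (lift g p ≫ (pbAct A f).act) ≫ _ = _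
  simp [pbAct]

/-- Base change of an object. -/
noncomputable def pb : AlgSt.QuotObj K G aX where
  base := T
  P := pullback A.π f
  act := pbAct A f
  π := pullback.snd A.π f
  cart := by
    refine isPullback_of_existsUnique _ _ (by simp [pbAct]) fun p q h => ?_
    have h' : (q ≫ pullback.fst A.π f) ≫ A.π = (p ≫ pullback.fst A.π f) ≫ A.π := by
      rw [Category.assoc, Category.assoc, pullback.condition, reassoc_of% h]
    obtain ⟨g, hg, hu⟩ := existsUnique_smul A (p ≫ pullback.fst A.π f) (q ≫ pullback.fst A.π f) h'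
    refine ⟨g, pullback.hom_ext (by rw [pbAct_smul_fst]; exact hg) (by rw [pbAct_smul_snd, h]), fun g' hg' => ?_⟩
    exact hu g' (by show smulPt A.act g' _ = _; rw [← pbAct_smul_fst, hg'])
  loc := locallyTrivial_pullback A (IsPullback.of_hasPullback A.π f)
  φ := pullback.fst A.π f ≫ A.φ
  eqv := by
    simp [pbAct, A.eqv, MonoidalCategory.whiskerLeft_comp]

/-- The cartesian arrow of the base change. -/
noncomputable def pbHom : pb A f ⟶ A where
  base := f
  top := pullback.fst A.π f
  eqv := pullback.lift_fst _ _ _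
  cart := IsPullback.of_hasPullback A.π f
  wφ := rfl

omit [K.IsStableUnderBaseChange] in
variable {A} in
theorem existsUnique_fac {B C : AlgSt.QuotObj K G aX} (φ : B ⟶ A) (ψ : C ⟶ A) (g : C.base ⟶ B.base)
    (hg : g ≫ φ.base = ψ.base) : ∃! χ : C ⟶ B, χ.base = g ∧ χ ≫ φ = ψ := by
  have w : ψ.top ≫ A.π = (C.π ≫ g) ≫ φ.base := by rw [ψ.cart.w, Category.assoc, hg]
  have hc : IsPullback (φ.cart.lift ψ.top (C.π ≫ g) w) C.π B.π g :=
    IsPullback.of_right (by rw [φ.cart.lift_fst, hg]; exact ψ.cart) (φ.cart.lift_snd _ _ _) φ.cart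
  refine ⟨{ base := g, top := φ.cart.lift ψ.top (C.π ≫ g) w, eqv := ?_, cart := hc, wφ := ?_ }, ⟨rfl, ?_⟩, ?_⟩
  · apply φ.cart.hom_ext
    · rw [Category.assoc, φ.cart.lift_fst, ψ.eqv, Category.assoc, φ.eqv, ← MonoidalCategory.whiskerLeft_comp_assoc,
        φ.cart.lift_fst]
    · rw [Category.assoc, φ.cart.lift_snd, Category.assoc, B.cart.w, whiskerLeft_snd_assoc, φ.cart.lift_snd,
        reassoc_of% C.cart.w]
  · rw [← φ.wφ, ← Category.assoc, φ.cart.lift_fst, ψ.wφ]
  · exact AlgSt.QuotObj.hom_ext hg (φ.cart.lift_fst _ _ _)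
  · rintro χ ⟨h1, h2⟩
    refine AlgSt.QuotObj.hom_ext h1 ?_
    apply φ.cart.hom_ext
    · rw [φ.cart.lift_fst]
      exact congrArg AlgSt.QuotObj.Hom.top h2
    · rw [φ.cart.lift_snd, χ.cart.w, h1]

variable (K G aX) in
theorem isFibGrpd : FibCat.IsFibGrpd (AlgSt.QuotSt K G aX).p :=
  Groth.Agent.Stk19.fibGrpd_mk (fun A {V} f => ⟨pb A f, pbHom A f, rfl, (Category.id_comp f).symm⟩)
    fun φ ψ g hg => existsUnique_fac φ ψ g hg

end Groth.Agent.Stk19b.Quot
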