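import Groth.Agent.Stk19b.Quot.Basic
import Groth.Agent.Desc19b.CoverLocal
import Groth.Agent.Et18.Descent

/-! Torsors of a quotient category: local triviality and affineness. -/

set_option autoImplicit false
set_option backward.isDefEq.respectTransparency false
set_option backward.isDefEq.respectTransparency.types false

universe u

open CategoryTheory CategoryTheory.Limits AlgebraicGeometry MonoidalCategory CartesianMonoidalCategory MonObj GrpObj
open Groth.Agent.Stk19b.QuotTriv

namespace Groth.Agent.Stk19b.Quot

variable {S : Scheme.{u}} {G X : Over S} [GrpObj G] {K : Precoverage Scheme.{u}} {aX : AlgGrp.Action G X}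

/-- A point of the torsor trivialises its base change. -/
theorem isPullback_point (A : AlgSt.QuotObj K G aX) {Z : Over S} (t : Z ⟶ A.P) :
    IsPullback (smulPt A.act (fst G Z) (snd G Z ≫ t)) (snd G Z) A.π (t ≫ A.π) := by
  have e : smulPt A.act (fst G Z) (snd G Z ≫ t) = (G ◁ t) ≫ A.act.act := by rw [whiskerLeft_eq]
  rw [e]
  exact (AlgSt.isPullback_whiskerLeft t).paste_horiz A.cart

omit [GrpObj G] in
theorem isPullback_left_snd (Z : Over S) : IsPullback (fst G Z).left (snd G Z).left G.hom Z.hom := by
  have h := (AlgSt.isPullback_fst_snd G Z).map (Over.forget S)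
  have e1 : (toUnit G).left = G.hom := by
    have := Over.w (toUnit G)
    simpa using this
  have e2 : (toUnit Z).left = Z.hom := by
    have := Over.w (toUnit Z)
    simpa using this
  simpa [e1, e2] using h

/-- The pullback of a torsor to a scheme over which it has a point. -/
theorem of_point (P : MorphismProperty Scheme.{u}) [P.IsStableUnderBaseChange] [P.RespectsIso] (hG : P G.hom)
    (A : AlgSt.QuotObj K G aX) {S' : Scheme.{u}} (g : S' ⟶ A.base.left) (v : S' ⟶ A.P.left)
    (hv : v ≫ A.π.left = g) : P (pullback.snd A.π.left g) := by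
  let Z : Over S := Over.mk (g ≫ A.base.hom)
  let t : Z ⟶ A.P := Over.homMk v (by
    show v ≫ A.P.hom = g ≫ A.base.hom
    rw [← Over.w A.π, reassoc_of% hv])
  have ht : (t ≫ A.π).left = g := hv
  have h := (isPullback_point A t).map (Over.forget S)
  have hP : P (snd G Z).left := P.of_isPullback (isPullback_left_snd Z) hG
  have h' : IsPullback (smulPt A.act (fst G Z) (snd G Z ≫ t)).left (snd G Z).left A.π.left g := ht ▸ h
  rw [← h'.isoPullback_inv_snd]
  exact (P.cancel_left_of_respectsIso _ _).2 hP

/-- Properties of `G` local for fpqc are inherited by the structure maps of torsors. -/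
theorem π_prop (hK : K ≤ Scheme.fpqcPrecoverage) (P : MorphismProperty Scheme.{u}) [IsZariskiLocalAtTarget P]
    [P.IsStableUnderBaseChange]
    (hd : P.DescendsAlong (@Surjective ⊓ @Flat ⊓ @QuasiCompact : MorphismProperty Scheme.{u}))
    (hG : P G.hom) (A : AlgSt.QuotObj K G aX) : P A.π.left := by
  obtain ⟨R, hR, hsec⟩ := A.loc
  obtain ⟨I, Y, g, rfl⟩ := R.exists_eq_ofArrows
  let 𝒰 : Scheme.Cover Scheme.fpqcPrecoverage A.base.left :=
    { toPreZeroHypercover := PreZeroHypercover.mk I Y g
      mem₀ := hK _ hR }
  haveI : Precoverage.Small.{u} Scheme.fpqcPrecoverage.{u} :=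
    inferInstanceAs (Precoverage.Small.{u} (Scheme.propQCPrecoverage @Flat))
  refine Desc19b.of_fpqcCover P hd A.π.left (Precoverage.ZeroHypercover.restrictIndexOfSmall.{u} 𝒰) fun i => ?_
  obtain ⟨v, hv⟩ := hsec _ ⟨Precoverage.ZeroHypercover.Small.restrictFun 𝒰 i⟩
  exact of_point P hG A _ v hv

theorem isAffineHom_π (hK : K ≤ Scheme.fpqcPrecoverage) [IsAffineHom G.hom] (A : AlgSt.QuotObj K G aX) :
    IsAffineHom A.π.left :=
  π_prop hK @IsAffineHom Et18.descends_isAffineHom inferInstance A

end Groth.Agent.Stk19b.Quot
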