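import Groth.Agent.Stk19b.Quot.Transport
import Groth.Agent.Stk19b.Quot.Torsor
import Groth.Agent.Desc19b.EffAffine

/-! The total space of the glued torsor: effective descent for affine morphisms. -/

set_option autoImplicit false
set_option backward.isDefEq.respectTransparency false
set_option backward.isDefEq.respectTransparency.types false

universe u

open CategoryTheory CategoryTheory.Limits AlgebraicGeometry MonoidalCategory CartesianMonoidalCategory MonObj GrpObj
open Groth.Agent.Stk19b.QuotTriv Desc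

namespace Groth.Agent.Stk19b.Quot

variable {S : Scheme.{u}} {G X : Over S} [GrpObj G] {K : Precoverage Scheme.{u}} {aX : AlgGrp.Action G X}
  {U : Over S} {R : Sieve U} (D : Stk.sieveCat R ⥤ᵇ AlgSt.QuotSt K G aX)

section Sch

variable {a b c : (Stk.sieveCat R).obj} {T : Scheme.{u}}

/-- Transport of points of underlying schemes. -/
noncomputable def trS (v : T ⟶ (tot D a).left) (x : T ⟶ b.obj.left.left)
    (h : v ≫ (proj D a).left ≫ a.obj.hom.left = x ≫ b.obj.hom.left) : T ⟶ (tot D b).left :=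
  (tr D (Over.homMk v rfl : Over.mk (v ≫ (tot D a).hom) ⟶ tot D a)
    (Over.homMk x (by
      show x ≫ b.obj.left.hom = v ≫ (tot D a).hom
      rw [← Over.w b.obj.hom, ← Over.w (proj D a ≫ a.obj.hom), Over.comp_left, Category.assoc]
      exact ((Category.assoc _ _ _).symm.trans (congrArg (· ≫ U.hom) h.symm)).trans (by simp)))
    (Over.OverMorphism.ext (by simpa using h))).left

theorem tr_left {Z : Over S} (p : Z ⟶ tot D a) (r : Z ⟶ b.obj.left)
    (h : p ≫ proj D a ≫ a.obj.hom = r ≫ b.obj.hom) :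
    (tr D p r h).left = trS D p.left r.left (by simpa using congrArg CommaMorphism.left h) := by
  let k : Z ⟶ Over.mk (p.left ≫ (tot D a).hom) := Over.homMk (𝟙 Z.left) ((Category.id_comp _).trans (Over.w p))
  let p' : Over.mk (p.left ≫ (tot D a).hom) ⟶ tot D a := Over.homMk p.left rfl
  let r' : Over.mk (p.left ≫ (tot D a).hom) ⟶ b.obj.left := Over.homMk r.left
    ((Over.w r).trans (Over.w p).symm)
  have h' : p' ≫ proj D a ≫ a.obj.hom = r' ≫ b.obj.hom :=
    Over.OverMorphism.ext (by simpa [p', r'] using congrArg CommaMorphism.left h)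
  have e := comp_tr D k p' r' h' (Over.OverMorphism.ext (by simpa [k, p', r'] using congrArg CommaMorphism.left h))
  have e1 : k ≫ p' = p := Over.OverMorphism.ext (Category.id_comp _)
  have e2 : k ≫ r' = r := Over.OverMorphism.ext (Category.id_comp _)
  simp only [e1, e2] at e
  rw [e]
  exact Category.id_comp _

theorem trS_congr {v v' : T ⟶ (tot D a).left} {x x' : T ⟶ b.obj.left.left} (hv : v = v') (hx : x = x')
    (h : v ≫ (proj D a).left ≫ a.obj.hom.left = x ≫ b.obj.hom.left) :
    trS D v x h = trS D v' x' (hv ▸ hx ▸ h) := by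
  subst hv hx
  rfl

theorem trS_proj (v : T ⟶ (tot D a).left) (x : T ⟶ b.obj.left.left)
    (h : v ≫ (proj D a).left ≫ a.obj.hom.left = x ≫ b.obj.hom.left) : trS D v x h ≫ (proj D b).left = x :=
  congrArg CommaMorphism.left (tr_proj D _ _ _)

theorem trS_self (v : T ⟶ (tot D a).left) (x : T ⟶ a.obj.left.left) (hx : v ≫ (proj D a).left = x)
    (h : v ≫ (proj D a).left ≫ a.obj.hom.left = x ≫ a.obj.hom.left) : trS D v x h = v :=
  congrArg CommaMorphism.left (tr_self D _ _ (Over.OverMorphism.ext hx) _)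

theorem trS_trS (v : T ⟶ (tot D a).left) (x : T ⟶ b.obj.left.left) (x' : T ⟶ c.obj.left.left)
    (h : v ≫ (proj D a).left ≫ a.obj.hom.left = x ≫ b.obj.hom.left)
    (h' : trS D v x h ≫ (proj D b).left ≫ b.obj.hom.left = x' ≫ c.obj.hom.left)
    (h'' : v ≫ (proj D a).left ≫ a.obj.hom.left = x' ≫ c.obj.hom.left) :
    trS D (trS D v x h) x' h' = trS D v x' h'' := by
  let Z := Over.mk (v ≫ (tot D a).hom)
  let p : Z ⟶ tot D a := Over.homMk v rfl
  have hx : x ≫ b.obj.left.hom = v ≫ (tot D a).hom := by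
    have := congrArg (· ≫ U.hom) h
    rw [← Over.w b.obj.hom, ← Over.w (proj D a), ← Over.w a.obj.hom]
    simpa using this.symm
  have hx' : x' ≫ c.obj.left.hom = v ≫ (tot D a).hom := by
    have := congrArg (· ≫ U.hom) h''
    rw [← Over.w c.obj.hom, ← Over.w (proj D a), ← Over.w a.obj.hom]
    simpa using this.symm
  let r : Z ⟶ b.obj.left := Over.homMk x hx
  let r' : Z ⟶ c.obj.left := Over.homMk x' hx'
  have e : p ≫ proj D a ≫ a.obj.hom = r ≫ b.obj.hom := Over.OverMorphism.ext (by simpa [p, r] using h)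
  have e'' : p ≫ proj D a ≫ a.obj.hom = r' ≫ c.obj.hom := Over.OverMorphism.ext (by simpa [p, r'] using h'')
  have e' : tr D p r e ≫ proj D b ≫ b.obj.hom = r' ≫ c.obj.hom := by
    rw [← Category.assoc, tr_proj, ← e, e'']
  have h1 := (tr_left D _ r' e').symm.trans
    ((congrArg CommaMorphism.left (tr_tr D p r r' e e' e'')).trans (tr_left D p r' e''))
  refine Eq.trans ?_ h1
  exact trS_congr D (tr_left D p r e).symm rfl h'

theorem comp_trS {T' : Scheme.{u}} (k : T' ⟶ T) (v : T ⟶ (tot D a).left) (x : T ⟶ b.obj.left.left)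
    (h : v ≫ (proj D a).left ≫ a.obj.hom.left = x ≫ b.obj.hom.left)
    (h' : (k ≫ v) ≫ (proj D a).left ≫ a.obj.hom.left = (k ≫ x) ≫ b.obj.hom.left) :
    trS D (k ≫ v) (k ≫ x) h' = k ≫ trS D v x h := by
  let Z := Over.mk (v ≫ (tot D a).hom)
  have hx : x ≫ b.obj.left.hom = v ≫ (tot D a).hom := by
    have := congrArg (· ≫ U.hom) h
    rw [← Over.w b.obj.hom, ← Over.w (proj D a), ← Over.w a.obj.hom]
    simpa using this.symm
  let p : Z ⟶ tot D a := Over.homMk v rfl
  let r : Z ⟶ b.obj.left := Over.homMk x hx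
  let k' : Over.mk (k ≫ v ≫ (tot D a).hom) ⟶ Z := Over.homMk k rfl
  have h1 : p ≫ proj D a ≫ a.obj.hom = r ≫ b.obj.hom := Over.OverMorphism.ext (by simpa [p, r] using h)
  have e := congrArg CommaMorphism.left (comp_tr D k' p r h1 ((Category.assoc _ _ _).trans ((congrArg (k' ≫ ·) h1).trans (Category.assoc _ _ _).symm)))
  exact (tr_left D (k' ≫ p) (k' ≫ r) _).symm.trans (e.trans (congrArg (k ≫ ·) (tr_left D p r h1)))

end Sch

variable {I : Type u} {V : I → Scheme.{u}} (f : ∀ i, V i ⟶ U.left)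

/-- A member of a covering family as a morphism over `S`. -/
noncomputable abbrev famHom (i : I) : Over.mk (f i ≫ U.hom) ⟶ U := Over.homMk (f i)

variable (hR : ∀ i, R (famHom f i))

/-- The object of the sieve of a member of the family. -/
noncomputable abbrev famObj (i : I) : (Stk.sieveCat R).obj := ⟨Over.mk (famHom f i), hR i⟩

theorem lift_cond {T : Scheme.{u}} {i j : I} {x₀ : T ⟶ V i} {x₁ : T ⟶ V j}
    (v : Lifts (Over.mk (proj D (famObj f hR i)).left) x₀) (h : x₀ ≫ f i = x₁ ≫ f j) :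
    v.1 ≫ (proj D (famObj f hR i)).left ≫ (famObj f hR i).obj.hom.left =
      x₁ ≫ (famObj f hR j).obj.hom.left :=
  (Category.assoc _ _ _).symm.trans ((congrArg (· ≫ f i) v.2).trans h)

/-- The transport bijections of the descent datum. -/
noncomputable def ddMap {T : Scheme.{u}} {i j : I} (x₀ : T ⟶ V i) (x₁ : T ⟶ V j) (h : x₀ ≫ f i = x₁ ≫ f j)
    (v : Lifts (Over.mk (proj D (famObj f hR i)).left) x₀) : Lifts (Over.mk (proj D (famObj f hR j)).left) x₁ :=
  ⟨trS D (a := famObj f hR i) (b := famObj f hR j) v.1 x₁ (lift_cond D f hR v h),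
    trS_proj D (a := famObj f hR i) (b := famObj f hR j) v.1 x₁ (lift_cond D f hR v h)⟩

theorem ddMap_self {T : Scheme.{u}} {i : I} (x : T ⟶ V i) (v : Lifts (Over.mk (proj D (famObj f hR i)).left) x) :
    ddMap D f hR x x rfl v = v :=
  Subtype.ext (trS_self D (a := famObj f hR i) v.1 x v.2 (lift_cond D f hR v rfl))

theorem ddMap_comp {T : Scheme.{u}} {i j k : I} (x₀ : T ⟶ V i) (x₁ : T ⟶ V j) (x₂ : T ⟶ V k)
    (h₀₁ : x₀ ≫ f i = x₁ ≫ f j) (h₁₂ : x₁ ≫ f j = x₂ ≫ f k)
    (v : Lifts (Over.mk (proj D (famObj f hR i)).left) x₀) :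
    ddMap D f hR x₁ x₂ h₁₂ (ddMap D f hR x₀ x₁ h₀₁ v) = ddMap D f hR x₀ x₂ (h₀₁.trans h₁₂) v :=
  Subtype.ext (trS_trS D (a := famObj f hR i) (b := famObj f hR j) (c := famObj f hR k) v.1 x₁ x₂
    (lift_cond D f hR v h₀₁) (lift_cond D f hR (ddMap D f hR x₀ x₁ h₀₁ v) h₁₂)
    (lift_cond D f hR v (h₀₁.trans h₁₂)))

/-- The descent datum of the total spaces. -/
noncomputable def totDD : SchDDFam f where
  obj i := Over.mk (proj D (famObj f hR i)).left
  φ T i j x₀ x₁ h :=
    { toFun := ddMap D f hR x₀ x₁ h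
      invFun := ddMap D f hR x₁ x₀ h.symm
      left_inv := fun v => (ddMap_comp D f hR x₀ x₁ x₀ h h.symm v).trans (ddMap_self D f hR x₀ v)
      right_inv := fun v => (ddMap_comp D f hR x₁ x₀ x₁ h.symm h v).trans (ddMap_self D f hR x₁ v) }
  φ_natural T T' g i j x₀ x₁ h y₀ y₁ hy₀ hy₁ h' v v' hv' := by
    subst hy₀ hy₁
    refine Eq.trans (trS_congr D (a := famObj f hR i) (b := famObj f hR j) hv' rfl (lift_cond D f hR v' h')) ?_
    exact comp_trS D (a := famObj f hR i) (b := famObj f hR j) g v.1 x₁ (lift_cond D f hR v h)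
      (hv' ▸ lift_cond D f hR v' h')
  φ_self T i x v := ddMap_self D f hR x v
  φ_comp T i j k x₀ x₁ x₂ h₀₁ h₁₂ v := ddMap_comp D f hR x₀ x₁ x₂ h₀₁ h₁₂ v

/-- The total space: a scheme over `U` whose base changes to the family are the members of the datum. -/
theorem exists_total (hK : K ≤ Scheme.fpqcPrecoverage) [IsAffineHom G.hom]
    (hf : Presieve.ofArrows V f ∈ Scheme.fpqcPrecoverage U.left) :
    ∃ (P₀ : Over S) (π₀ : P₀ ⟶ U) (q : ∀ i, tot D (famObj f hR i) ⟶ P₀),
      (∀ i, IsPullback (q i) (proj D (famObj f hR i)) π₀ (famHom f i)) ∧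
      ∀ (i j : I) {Z : Over S} (p : Z ⟶ tot D (famObj f hR i)) (r : Z ⟶ (famObj f hR j).obj.left) (h),
        tr D p r h ≫ q j = p ≫ q i := by
  have haff : ∀ i, IsAffineHom ((totDD D f hR).obj i).hom := fun i => by
    haveI := isAffineHom_π hK (D.obj (famObj f hR i))
    show IsAffineHom ((D.obj (famObj f hR i)).π ≫ eqToHom (base_eq D (famObj f hR i))).left
    rw [Over.comp_left]
    infer_instance
  obtain ⟨W, ⟨e⟩⟩ := Desc19b.isEffective_of_isAffineHom hf (totDD D f hR) haff
  let q₀ : ∀ i, (tot D (famObj f hR i)).left ⟶ W.left := fun i => (e.inv.hom i).left ≫ pullback.snd (f i) W.hom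
  have hsq : ∀ i, IsPullback (q₀ i) (proj D (famObj f hR i)).left W.hom (f i) := by
    intro i
    haveI : IsIso (e.inv.hom i) := ⟨e.hom.hom i,
      congrArg (fun (z : (totDD D f hR) ⟶ (totDD D f hR)) => z.hom i) e.inv_hom_id,
      congrArg (fun (z : canonicalDDFam f W ⟶ canonicalDDFam f W) => z.hom i) e.hom_inv_id⟩
    haveI : IsIso (e.inv.hom i).left := inferInstanceAs (IsIso ((Over.forget _).map (e.inv.hom i)))
    refine IsPullback.of_iso (IsPullback.of_hasPullback (f i) W.hom).flip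
      (asIso (e.inv.hom i).left).symm (Iso.refl _) (Iso.refl _) (Iso.refl _) ?_ ?_ (by simp) (by simp)
    · simp [q₀]
    · simp only [Iso.refl_hom, Category.comp_id, Iso.symm_hom, asIso_inv]
      rw [IsIso.eq_inv_comp]
      exact Over.w (e.inv.hom i)
  have hw : ∀ i, q₀ i ≫ W.hom ≫ U.hom = (tot D (famObj f hR i)).hom := fun i => by
    rw [← Category.assoc, (hsq i).w, Category.assoc]
    exact Over.w (proj D (famObj f hR i))
  let q : ∀ i, tot D (famObj f hR i) ⟶ Over.mk (W.hom ≫ U.hom) := fun i => Over.homMk (q₀ i) (hw i)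
  refine ⟨Over.mk (W.hom ≫ U.hom), Over.homMk W.hom, q, fun i => ?_, fun i j Z p r h => ?_⟩
  · exact IsPullback.of_map (Over.forget S) (Over.OverMorphism.ext (hsq i).w) (hsq i)
  · refine Over.OverMorphism.ext ?_
    rw [Over.comp_left, Over.comp_left, tr_left]
    have hp := congrArg CommaMorphism.left h
    let x₀ : Z.left ⟶ V i := p.left ≫ (proj D (famObj f hR i)).left
    have hx : x₀ ≫ f i = r.left ≫ f j := (Category.assoc _ _ _).trans (by simpa using hp)
    let v : Lifts ((totDD D f hR).obj i) x₀ := ⟨p.left, rfl⟩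
    let w : Lifts ((canonicalDDFam f W).obj i) x₀ :=
      ⟨p.left ≫ (e.inv.hom i).left, by rw [Category.assoc]; exact congrArg (p.left ≫ ·) (Over.w (e.inv.hom i))⟩
    have hcm := e.inv.comm x₀ r.left hx v w rfl
    have := congrArg (· ≫ pullback.snd (f j) W.hom) hcm
    simp only [Category.assoc] at this
    refine this.symm.trans ?_
    show pullback.lift _ _ _ ≫ pullback.snd _ _ = _
    rw [pullback.lift_snd]
    exact Category.assoc _ _ _

end Groth.Agent.Stk19b.Quot
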