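import Groth.Agent.Stk19b.Quot.Descend
import Groth.Agent.Stk19b.Quot.Total
import Groth.Agent.Misc15.OverSubcanonical
import Groth.Prelude.Def_QuotSh

/-! `[X/G]` is a stack for a topology between isomorphisms and fpqc, `G` affine. -/

set_option autoImplicit false
set_option linter.style.haveILetI false
set_option backward.isDefEq.respectTransparency false
set_option backward.isDefEq.respectTransparency.types false

universe u

open CategoryTheory CategoryTheory.Limits AlgebraicGeometry MonoidalCategory CartesianMonoidalCategory MonObj GrpObj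

namespace Groth.Agent.Stk19b.Quot

variable {S : Scheme.{u}} {G X : Over S} [GrpObj G] (K : Precoverage Scheme.{u}) (aX : AlgGrp.Action G X)

theorem subcanonical_J (hK : K ≤ Scheme.fpqcPrecoverage) : (QuotSh.J K S).Subcanonical := by
  haveI : K.toGrothendieck.Subcanonical :=
    GrothendieckTopology.Subcanonical.of_le (Precoverage.toGrothendieck_mono hK)
  exact Groth.Agent.Misc15.OverSubcanonical.subcanonical_over _ _

variable [K.IsStableUnderBaseChange] [K.IsStableUnderComposition] [K.HasIsos] [Precoverage.Small.{u} K]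

theorem exists_family {U : Over S} {R : Sieve U} (hR : R ∈ QuotSh.J K S U) :
    ∃ (I : Type u) (V : I → Scheme.{u}) (f : ∀ i, V i ⟶ U.left),
      Presieve.ofArrows V f ∈ K U.left ∧ ∀ i, R (famHom f i) := by
  rw [GrothendieckTopology.mem_over_iff] at hR
  obtain ⟨R', hR', hle⟩ := K.mem_toGrothendieck_iff_of_isStableUnderComposition.1 hR
  obtain ⟨I, Y, g, rfl⟩ := R'.exists_eq_ofArrows
  let 𝒰 : Precoverage.ZeroHypercover K U.left :=
    { toPreZeroHypercover := PreZeroHypercover.mk I Y g
      mem₀ := hR' }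
  let 𝒱 := Precoverage.ZeroHypercover.restrictIndexOfSmall.{u} 𝒰
  refine ⟨𝒱.I₀, 𝒱.X, 𝒱.f, 𝒱.mem₀, fun i => ?_⟩
  exact (Sieve.overEquiv_iff R _).1 (hle _ _ ⟨Precoverage.ZeroHypercover.Small.restrictFun 𝒰 i⟩)

theorem isStack (hK : K ≤ Scheme.fpqcPrecoverage) [IsAffineHom G.hom] :
    Stk.IsStack (QuotSh.J K S) (AlgSt.QuotSt K G aX) := by
  haveI := subcanonical_J (S := S) K hK
  refine ⟨isFibGrpd G K aX, fun U R hR => ?_⟩
  rw [Stk19.isStackFor_iff_glue (isFibGrpd G K aX)]
  refine ⟨homGlue _ hR, fun D => ?_⟩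
  obtain ⟨I, V, f, hf, hfR⟩ := exists_family K hR
  obtain ⟨P₀, π₀, q, hq, hcompat⟩ := exists_total D f hfR hK (hK _ hf)
  have hcov : Sieve.ofArrows (fun i => (famObj f hfR i).obj.left) (fun i => (famObj f hfR i).obj.hom) ∈
      QuotSh.J K S U := by
    rw [GrothendieckTopology.mem_over_iff, Sieve.overEquiv_ofArrows]
    exact Precoverage.generate_mem_toGrothendieck hf
  obtain ⟨ν, hp, hν⟩ := exists_charts D (QuotSh.J K S) (famObj f hfR) hcov π₀ q hq hcompat
  have hloc : NonAbH1.IsLocallyTrivialFor K (Over.mk π₀.left : Over U.left) := by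
    have hP : ∀ i, ∃ (σ : Type (u + 1)) (Y : σ → Scheme.{u}) (g : ∀ j, Y j ⟶ V i),
        Presieve.ofArrows Y g ∈ K (V i) ∧
          ∀ j, ∃ v : Y j ⟶ (tot D (famObj f hfR i)).left, v ≫ (proj D (famObj f hfR i)).left = g j := fun i => by
      have hloc' : NonAbH1.IsLocallyTrivialFor K (Over.mk (proj D (famObj f hfR i)).left) :=
        locallyTrivial_pullback (D.obj (famObj f hfR i)) (f := eqToHom (base_eq D (famObj f hfR i)).symm)
          (IsPullback.of_horiz_isIso ⟨by simp [proj]⟩ :
            IsPullback (𝟙 _) (proj D (famObj f hfR i)) (D.obj (famObj f hfR i)).π _)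
      obtain ⟨R', hR', hs⟩ := hloc'
      obtain ⟨σ, Y, g, rfl⟩ := R'.exists_eq_ofArrows
      exact ⟨σ, Y, g, hR', fun j => hs (g j) ⟨j⟩⟩
    choose σ Y g hg hs using hP
    refine ⟨_, Precoverage.comp_mem_coverings f hf g hg, ?_⟩
    rintro S' k ⟨⟨i, j⟩⟩
    obtain ⟨v, hv⟩ := hs i j
    refine ⟨v ≫ (q i).left, ?_⟩
    show (v ≫ (q i).left) ≫ π₀.left = g i j ≫ f i
    rw [Category.assoc, ← Over.comp_left, (hq i).w, Over.comp_left, reassoc_of% hv]
    rfl
  exact exists_glued_obj D ν (QuotSh.J K S) hR hp hν hloc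

end Groth.Agent.Stk19b.Quot

namespace Groth.Agent.Stk19b.Quot

variable {S : Scheme.{u}} {G X : Over S} [GrpObj G] (aX : AlgGrp.Action G X)

theorem isStack_fppf [IsAffineHom G.hom] :
    Stk.IsStack (QuotSh.J Scheme.fppfPrecoverage S) (AlgSt.QuotSt Scheme.fppfPrecoverage G aX) := by
  haveI : Precoverage.Small.{u} Scheme.fppfPrecoverage.{u} :=
    inferInstanceAs (Precoverage.Small.{u} (Scheme.precoverage (@Flat ⊓ @LocallyOfFinitePresentation)))
  haveI : Scheme.fppfPrecoverage.{u}.HasIsos :=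
    ⟨fun f _ => Scheme.zariskiPrecoverage_le_fppfPrecoverage _ (Precoverage.mem_coverings_of_isIso f)⟩
  exact isStack _ aX Scheme.fppfPrecoverage_le_fpqcPrecoverage

theorem isStack_fpqc [IsAffineHom G.hom] :
    Stk.IsStack (QuotSh.J Scheme.fpqcPrecoverage S) (AlgSt.QuotSt Scheme.fpqcPrecoverage G aX) := by
  haveI : Precoverage.Small.{u} Scheme.fpqcPrecoverage.{u} :=
    inferInstanceAs (Precoverage.Small.{u} (Scheme.propQCPrecoverage @Flat))
  exact isStack _ aX le_rfl

theorem isStack_etale [IsAffineHom G.hom] :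
    Stk.IsStack (QuotSh.J Scheme.etalePrecoverage S) (AlgSt.QuotSt Scheme.etalePrecoverage G aX) := by
  haveI : Precoverage.Small.{u} Scheme.etalePrecoverage.{u} :=
    inferInstanceAs (Precoverage.Small.{u} (Scheme.precoverage @Etale))
  haveI : Scheme.etalePrecoverage.{u}.HasIsos := inferInstanceAs (Scheme.precoverage @Etale).HasIsos
  haveI : Scheme.etalePrecoverage.{u}.IsStableUnderBaseChange :=
    inferInstanceAs (Scheme.precoverage @Etale).IsStableUnderBaseChange
  haveI : Scheme.etalePrecoverage.{u}.IsStableUnderComposition :=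
    inferInstanceAs (Scheme.precoverage @Etale).IsStableUnderComposition
  exact isStack _ aX (Scheme.etalePrecoverage_le_proetalePrecoverage.trans Scheme.proetalePrecoverage_le_fpqcPrecoverage)

end Groth.Agent.Stk19b.Quot
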