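import Groth.Agent.Stk19b.Quot.Fibre
import Groth.Agent.Stk19b.Quot.Stack
import Groth.Agent.AlgSpLib.FppfLocal
import Groth.Agent.AlgSpLib.MorProper
import Groth.Agent.Stk19.AlgSt.LocQThm

/-! Properties of the atlas `X ⟶ [X/G]`. -/

set_option autoImplicit false
set_option linter.style.haveILetI false
set_option backward.isDefEq.respectTransparency false
set_option backward.isDefEq.respectTransparency.types false

universe u

open CategoryTheory CategoryTheory.Limits AlgebraicGeometry MonoidalCategory CartesianMonoidalCategory MonObj GrpObj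
open Groth.Agent.Stk19

namespace Groth.Agent.Stk19b.Quot

variable {S : Scheme.{u}} {G X : Over S} [GrpObj G] {K : Precoverage Scheme.{u}} {aX : AlgGrp.Action G X}
  [K.HasIsos] [K.IsStableUnderBaseChange]

theorem rep_atlas (P : MorphismProperty (AlgSp.Sp S))
    (h : ∀ A : AlgSt.QuotObj K G aX, P ((AlgSp.yon S).map A.π)) :
    AlgSt.RepByAlgSpWith P (atlas G K aX) := by
  intro U y
  obtain ⟨c, E, hE, hfst, eA, hc⟩ := exists_fibre y
  refine witness_transfer hE (eqToIso hfst)
    ⟨⟨_, AlgSp.IsAlgSpace.yon_obj _⟩, AlgSt.toOverCat _, isEquivOver_toOverCat _, ?_⟩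
  rw [spMapOfOver_overMap, spMapOfOver_toOverCat, Category.id_comp, hc]
  have key : ∀ (A : AlgSt.QuotObj K G aX) {U' : Over S} (e : A.base = U'),
      P ((AlgSp.yon S).map (A.π ≫ eqToHom e)) := by
    rintro A U' rfl
    simpa using h A
  exact key _ eA

theorem locP_π (hK : K ≤ Scheme.fpqcPrecoverage) (Q : MorphismProperty Scheme.{u}) [IsZariskiLocalAtTarget Q]
    [Q.IsStableUnderBaseChange] [Q.RespectsIso]
    (hd : Q.DescendsAlong (@Surjective ⊓ @Flat ⊓ @QuasiCompact : MorphismProperty Scheme.{u}))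
    (hQ : AlgSpLib.EtLocal Q) (hG : Q G.hom) (A : AlgSt.QuotObj K G aX) :
    AlgSp.LocP Q ((AlgSp.yon S).map A.π) :=
  (locP_yon_iff hQ _).2 (π_prop hK Q hd hG A)

omit [GrpObj G] in
theorem surjective_hom [GrpObj G] : Surjective G.hom := by
  refine ⟨fun s => ⟨(η[G] : 𝟙_ (Over S) ⟶ G).left s, ?_⟩⟩
  have h := Over.w (η[G] : 𝟙_ (Over S) ⟶ G)
  rw [← Scheme.Hom.comp_apply, h]
  rfl

theorem rep_flat (hK : K ≤ Scheme.fpqcPrecoverage) [Flat G.hom] :
    AlgSt.RepByAlgSpWith (AlgSp.LocP @Flat) (atlas G K aX) :=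
  rep_atlas _ (locP_π hK @Flat AlgSpLib.descends_flat AlgSpLib.etLocal_flat inferInstance)

theorem rep_lfp (hK : K ≤ Scheme.fpqcPrecoverage) [LocallyOfFinitePresentation G.hom] :
    AlgSt.RepByAlgSpWith (AlgSp.LocP @LocallyOfFinitePresentation) (atlas G K aX) :=
  rep_atlas _ (locP_π hK @LocallyOfFinitePresentation inferInstance AlgSpLib.etLocal_lfp inferInstance)

theorem rep_smooth (hK : K ≤ Scheme.fpqcPrecoverage) [Smooth G.hom] :
    AlgSt.RepByAlgSpWith (AlgSp.LocP @Smooth) (atlas G K aX) :=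
  rep_atlas _ (locP_π hK @Smooth inferInstance AlgSpLib.etLocal_smooth inferInstance)

theorem rep_surjective (hK : K ≤ Scheme.fpqcPrecoverage) :
    AlgSt.RepByAlgSpWith AlgSp.IsSurjectiveMor (atlas G K aX) :=
  rep_atlas _ fun A => surjective_yon (π_prop hK @Surjective inferInstance surjective_hom A).surj

theorem rep_affine (hK : K ≤ Scheme.fpqcPrecoverage) [IsAffineHom G.hom] :
    AlgSt.RepByAlgSpWith AlgSp.IsAffineMor (atlas G K aX) :=
  rep_atlas _ fun A =>
    AlgSpLib.isAffineMor_of_repWith ((AlgSp.repWith_yon_map_iff _ _).2 (isAffineHom_π hK A))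

omit [K.HasIsos] [K.IsStableUnderBaseChange] in
theorem hasIsos_fppf : Scheme.fppfPrecoverage.{u}.HasIsos :=
  ⟨fun f _ => Scheme.zariskiPrecoverage_le_fppfPrecoverage _ (Precoverage.mem_coverings_of_isIso f)⟩

end Groth.Agent.Stk19b.Quot
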