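import Groth.Agent.Stk19b.Quot.AffineDiag
import Groth.Agent.Stk19b.FlatQuot.Main
import Groth.Agent.AlgSpLib.FpqcBaseAffine2
import Groth.Agent.QuasiAffLib.Basic

/-! The diagonal of the fppf quotient stack is affine or quasi-affine with that of the space. -/

set_option autoImplicit false
set_option linter.style.haveILetI false
set_option backward.isDefEq.respectTransparency false
set_option backward.isDefEq.respectTransparency.types false

universe u

open CategoryTheory CategoryTheory.Limits AlgebraicGeometry MonoidalCategory CartesianMonoidalCategory MonObj GrpObj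
open Groth.Agent.Stk19 FibCat

namespace Groth.Agent.Stk19b.Quot

variable {S : Scheme.{u}} {G X : Over S} [GrpObj G] (aX : AlgGrp.Action G X)

theorem pbStable_quasiAffine : PbStable (AlgSp.IsQuasiAffineMor (S := S)) := fun _ _ _ _ _ _ _ _ _ _ _ _ sq h =>
  AlgSpLib.isQuasiAffineMor_of_isPullback sq h

theorem schDescent_quasiAffine : SchDescent (AlgSp.IsQuasiAffineMor (S := S)) := fun V T W a c _ _ _ h =>
  (AlgSpLib.isLocalOnBase_fpqc_quasiAffine (fun _ : PUnit.{u + 1} => (AlgSp.yon S).obj W)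
    (fun _ => (AlgSp.yon S).map c)
    (AlgSp.IsAlgSpace.yon_obj T) (fun _ => AlgSp.IsAlgSpace.yon_obj W) (isFpqcCover_single c) a V.property _ _
    (fun _ => pullback.fst a ((AlgSp.yon S).map c))
    (fun _ => isAlgSpace_pullback_yon (Z := ⟨_, AlgSp.IsAlgSpace.yon_obj T⟩) a ((AlgSp.yon S).map c))
    (fun _ => IsPullback.of_hasPullback a ((AlgSp.yon S).map c))).2 fun _ => h

theorem isQuasiAffineMor_yon {W V : Over S} (p : W ⟶ V) (hp : Mor2.IsQuasiAffine p.left) :
    AlgSp.IsQuasiAffineMor ((AlgSp.yon S).map p) := by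
  intro Z hZ g
  obtain ⟨t, rfl⟩ := (AlgSp.yon S).map_surjective g
  refine ⟨pullback p t, pullback.snd p t, (AlgSp.yon S).map (pullback.fst p t),
    (IsPullback.of_hasPullback p t).map (AlgSp.yon S), ?_⟩
  have sq := (IsPullback.of_hasPullback p t).map (Over.forget S)
  have h := QuasiAffLib.isQuasiAffine_baseChange p.left hp t.left
  have : IsAffine Z.left := hZ
  have := h.2 ⊤ (isAffineOpen_top _)
  have htop : ((pullback.snd p.left t.left) ⁻¹ᵁ ⊤) = ⊤ := rfl
  let e : (pullback p t).left ≅ ((pullback.snd p.left t.left ⁻¹ᵁ ⊤ : (pullback p.left t.left).Opens) : Scheme.{u}) :=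
    sq.isoPullback ≪≫ (Scheme.topIso _).symm
  exact Scheme.IsQuasiAffine.of_isAffineHom e.hom

theorem quasiAffine_pair [IsAffineHom G.hom] [QuasiSeparated X.hom] :
    Mor2.IsQuasiAffine (lift aX.act (snd G X)).left := by
  have : QuasiSeparated (snd X X).left :=
    MorphismProperty.of_isPullback (P := @QuasiSeparated) (isPullback_left_snd X) inferInstance
  refine QuasiAffLib.isQuasiAffine_of_comp _ (snd X X).left ?_
  rw [← Over.comp_left, lift_snd]
  have h : IsAffineHom (snd G X).left :=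
    MorphismProperty.of_isPullback (P := @IsAffineHom) (isPullback_left_snd X) ‹IsAffineHom G.hom›
  exact ⟨inferInstance, fun V hV => have := (h.isAffine_preimage V hV); have : IsAffine ((snd G X).left ⁻¹ᵁ V : Scheme.{u}) := this
    inferInstance⟩

theorem fpToProd_iff {P : MorphismProperty (AlgSp.Sp S)} (K : Precoverage Scheme.{u}) [K.HasIsos] :
    AlgSt.RepByAlgSpWith P (fpToProd (AlgSt.quotMap K G aX) (AlgSt.quotMap K G aX)) ↔
      AlgSt.RepByAlgSpWith P (AlgSt.ofSpMap ((AlgSp.yon S).map (lift aX.act (snd G X)))) := by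
  obtain ⟨e, he⟩ := exists_twoCart (G := G) (X := X) K aX
  obtain ⟨E, hE, h₁, h₂⟩ := exists_prod_equiv X X
  let p : G ⊗ X ⟶ X ⊗ X := lift aX.act (snd G X)
  obtain ⟨i⟩ := nonempty_iso_prod (H := BasedFunctor.comp (AlgSt.ofSpMap ((AlgSp.yon S).map p)) E)
    (K := BasedFunctor.comp (fpLift (actMap aX) (sndMap G X) e)
      (fpToProd (AlgSt.quotMap K G aX) (AlgSt.quotMap K G aX)))
    (eqToIso (by
      show BasedFunctor.comp (AlgSt.ofSpMap _) (BasedFunctor.comp E (fpFst _ _)) = actMap aX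
      rw [h₁, ofSpMap_comp, ← Functor.map_comp, lift_fst]))
    (eqToIso (by
      show BasedFunctor.comp (AlgSt.ofSpMap _) (BasedFunctor.comp E (fpSnd _ _)) =
        BasedFunctor.comp (fpLift (actMap aX) (sndMap G X) e) (fpSnd _ _)
      rw [h₂, ofSpMap_comp, ← Functor.map_comp, lift_snd]
      exact (based_ext rfl).symm))
  exact (repByAlgSpWith_iff_of_square (f' := AlgSt.ofSpMap ((AlgSp.yon S).map p)) he hE i).symm

theorem diag_with_iff [IsAffineHom G.hom] [Flat G.hom] [LocallyOfFinitePresentation G.hom]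
    {P : MorphismProperty (AlgSp.Sp S)} (hR : RespSrc P) (hD : SchDescent P) :
    AlgSt.RepByAlgSpWith P (FibCat.diag (toSelf (AlgSt.QuotSt Scheme.fppfPrecoverage G aX))) ↔
      AlgSt.RepByAlgSpWith P (AlgSt.ofSpMap ((AlgSp.yon S).map (lift aX.act (snd G X)))) := by
  haveI := hasIsos_fppf.{u}
  haveI : Scheme.fppfPrecoverage.{u}.IsStableUnderBaseChange :=
    inferInstanceAs (Scheme.precoverage (@Flat ⊓ @LocallyOfFinitePresentation)).IsStableUnderBaseChange
  let q := AlgSt.quotMap Scheme.fppfPrecoverage G aX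
  have hle := Scheme.fppfPrecoverage_le_fpqcPrecoverage.{u}
  have h0 : FibCat.IsFibGrpd (AlgSt.QuotSt Scheme.fppfPrecoverage G aX).p := isFibGrpd G _ aX
  have hsch : FibCat.IsFibGrpd (AlgSt.ofSch X).p := (setoid_ofSp _).1
  have hq : ∀ {P : MorphismProperty (AlgSp.Sp S)}, AlgSt.RepByAlgSpWith P (atlas G Scheme.fppfPrecoverage aX) →
      AlgSt.RepByAlgSpWith P q := fun h => with_equiv_comp (isEquivOver_toOverCat X) h
  have hpp : ∀ {P : MorphismProperty (AlgSp.Sp S)}, RespSrc P → AtlasDescent P → CompStable P →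
      AlgSt.RepByAlgSpWith P q → AlgSt.RepByAlgSpWith P (prodPair q q) := fun hR hD hC h => by
    have hm := repByAlgSpWith_of_iso (prodMapFactor q q)
      (repByAlgSpWith_comp_desc hR hD hC (fibGrpd_fp hsch hsch fibGrpd_selfOver _ _)
        (fibGrpd_fp h0 hsch fibGrpd_selfOver _ _) (prodLeft_with h) (prodRight_with h))
    exact hm
  rw [← fpToProd_iff aX Scheme.fppfPrecoverage]
  have sq := repByAlgSpWith_iff_of_square (P := P) (f' := fpToProd q q)
    (f := fpFst (prodPair q q) (FibCat.diag (toSelf _)))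
    (a := magicSquare q q) (b := BasedFunctor.id _) (isEquivOver_magicSquare q q) (isEquivOver_id _) (Iso.refl _)
  refine ⟨fun h => sq.2 (repByAlgSpWith_fpFst _ h), fun h => ?_⟩
  exact with_of_cover hR hD (FlatQuot.isAlgStack_quotSt G X aX).diag (g := prodPair q q)
    (hpp (respSrc_locP AlgSpLib.etLocal_flat) (atlasDescent_locP AlgSpLib.etLocal_flat)
      (compStable_locP AlgSpLib.etLocal_flat) (hq (rep_flat hle)))
    (hpp (respSrc_locP AlgSpLib.etLocal_lfp) (atlasDescent_locP AlgSpLib.etLocal_lfp)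
      (compStable_locP AlgSpLib.etLocal_lfp) (hq (rep_lfp hle)))
    (hpp respSrc_surjective atlasDescent_surjective compStable_surjective (hq (rep_surjective hle))) (sq.1 h)

theorem quasiAffine_diag [IsAffineHom G.hom] [Flat G.hom] [LocallyOfFinitePresentation G.hom]
    [QuasiSeparated X.hom] :
    AlgSt.RepByAlgSpWith AlgSp.IsQuasiAffineMor
      (FibCat.diag (toSelf (AlgSt.QuotSt Scheme.fppfPrecoverage G aX))) :=
  (diag_with_iff aX (respSrc_of_baseChange pbStable_quasiAffine) schDescent_quasiAffine).2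
    (repByAlgSpWith_ofSpMap pbStable_quasiAffine (V := ⟨_, AlgSp.IsAlgSpace.yon_obj _⟩)
      (Z := ⟨_, AlgSp.IsAlgSpace.yon_obj _⟩) _ (isQuasiAffineMor_yon _ (quasiAffine_pair aX)))

theorem affine_diag_iff [IsAffineHom G.hom] [Flat G.hom] [LocallyOfFinitePresentation G.hom] :
    AlgSt.RepByAlgSpWith AlgSp.IsAffineMor
        (FibCat.diag (toSelf (AlgSt.QuotSt Scheme.fppfPrecoverage G aX))) ↔
      IsAffineHom (pullback.diagonal X.hom) := by
  rw [diag_with_iff aX (respSrc_of_baseChange pbStable_affine) schDescent_affine]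
  let p : G ⊗ X ⟶ X ⊗ X := lift aX.act (snd G X)
  refine ⟨fun h => ?_, fun h => repByAlgSpWith_ofSpMap pbStable_affine (V := ⟨_, AlgSp.IsAlgSpace.yon_obj _⟩)
    (Z := ⟨_, AlgSp.IsAlgSpace.yon_obj _⟩) _
    (AlgSpLib.isAffineMor_of_repWith ((AlgSp.repWith_yon_map_iff _ p).2 (isAffineHom_pair aX h)))⟩
  have he : (AlgSp.IsAffineMor (S := S)) = AlgSp.RepWith @IsAffineHom :=
    MorphismProperty.ext _ _ fun _ _ f => AlgSpLib.isAffineMor_iff_repWith f
  rw [he] at h
  have hp : IsAffineHom p.left := (AlgSp.repWith_yon_map_iff _ p).1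
    (prop_of_repByAlgSpWith_ofSpMap pbStable_repWith schemeTested_repWith (V := ⟨_, AlgSp.IsAlgSpace.yon_obj _⟩)
      (Z := ⟨_, AlgSp.IsAlgSpace.yon_obj _⟩) _ h)
  let s : X ⟶ G ⊗ X := lift 1 (𝟙 X)
  have hs : s ≫ p = lift (𝟙 X) (𝟙 X) := by
    simp only [s, p, comp_lift, lift_snd]
    congr 1
    exact QuotTriv.smulPt_one aX (𝟙 X)
  have hsnd : IsAffineHom (snd G X).left :=
    MorphismProperty.of_isPullback (P := @IsAffineHom) (isPullback_left_snd X) ‹IsAffineHom G.hom›
  have hs2 : s.left ≫ (snd G X).left = 𝟙 X.left := by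
    rw [← Over.comp_left, lift_snd]
    rfl
  have : IsClosedImmersion (s.left ≫ (snd G X).left) := by rw [hs2]; infer_instance
  have : IsClosedImmersion s.left := IsClosedImmersion.of_comp s.left (snd G X).left
  have hd : IsAffineHom (lift (𝟙 X) (𝟙 X)).left := by
    rw [← hs, Over.comp_left]
    infer_instance
  exact hd

end Groth.Agent.Stk19b.Quot
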