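import Groth.Agent.Stk19b.Quot.UnivFF
import Groth.Prelude.Def_ChGrp

/-!
# Induction of quotient stacks along a homomorphism of groups

If `φ : Z ⟶ Y` is equivariant along `i : H ⟶ G`, its graph identifies the stabilisers and every point of `Y` is
locally a translate of one in the image, then `[Z/H] ≅ [Y/G]`.
-/

set_option autoImplicit false
set_option backward.isDefEq.respectTransparency false
set_option backward.isDefEq.respectTransparency.types false

universe u

open CategoryTheory CategoryTheory.Limits AlgebraicGeometry MonoidalCategory CartesianMonoidalCategory MonObj GrpObj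
open Groth.Agent.Stk19 Groth.Agent.Desc19 Groth.Agent.Stk19b.QuotTriv

namespace Groth.Agent.Stk19b.Quot

variable {S : Scheme.{u}} {G H Z Y : Over S} [GrpObj G] [GrpObj H] (i : H ⟶ G) [IsMonHom i]
  (aZ : AlgGrp.Action H Z) (aY : AlgGrp.Action G Y) (φ : Z ⟶ Y)

/-- The structure map of a locally trivial morphism generates a covering sieve. -/
theorem generate_mem_of_loc {P B : Over S} (π : P ⟶ B) {K : Precoverage Scheme.{u}}
    (h : NonAbH1.IsLocallyTrivialFor K (Over.mk π.left : Over B.left)) :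
    Sieve.generate (Presieve.singleton π) ∈ QuotSh.J K S B := by
  rw [GrothendieckTopology.mem_over_iff]
  obtain ⟨R, hR, hs⟩ := h
  refine K.toGrothendieck.superset_covering ?_ (Precoverage.generate_mem_toGrothendieck hR)
  rw [Sieve.generate_le_iff]
  intro S' g hg
  obtain ⟨v, hv⟩ := hs g hg
  let Z : Over S := Over.mk (g ≫ B.hom)
  let t : Z ⟶ P := Over.homMk v (by
    show v ≫ P.hom = g ≫ B.hom
    rw [← Over.w π, ← Category.assoc]
    exact congrArg (· ≫ B.hom) hv)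
  refine (Sieve.overEquiv_iff _ g).2 ?_
  exact ⟨_, t, π, ⟨⟩, Over.OverMorphism.ext hv⟩

/-- The hypotheses on the map inducing the equivalence. -/
structure IsInduced : Prop where
  equiv : ∀ {T : Over S} (h : T ⟶ H) (z : T ⟶ Z), smulPt aY (h ≫ i) (z ≫ φ) = smulPt aZ h z ≫ φ
  bij : ∀ {T : Over S} (z w : T ⟶ Z) (g : T ⟶ G), smulPt aY g (w ≫ φ) = z ≫ φ →
    ∃! h : T ⟶ H, smulPt aZ h z = w ∧ (h ≫ i)⁻¹ = g
  loc : ∀ {V : Over S} (y : V ⟶ Y), ∃ R ∈ QuotSh.J Scheme.fppfPrecoverage S V, ∀ ⦃V' : Over S⦄ (l : V' ⟶ V), R l →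
    ∃ (g : V' ⟶ G) (z : V' ⟶ Z), l ≫ y = smulPt aY g (z ≫ φ)

variable {i aZ aY φ}

theorem map_cond (hI : IsInduced i aZ aY φ) {T W : Over S} (z : T ⟶ Z) (w : W ⟶ Z) (k : T ⟶ W) (h : T ⟶ H)
    (hh : smulPt aZ h z = k ≫ w) : smulPt aY ((h ≫ i)⁻¹) (k ≫ w ≫ φ) = z ≫ φ := by
  rw [← Category.assoc, ← hh, ← hI.equiv, smulPt_inv_smul]

/-- The arrow of trivial objects attached to a group element. -/
noncomputable def indMap (hI : IsInduced i aZ aY φ) {T W : Over S} (z : T ⟶ Z) (w : W ⟶ Z) (k : T ⟶ W) (h : T ⟶ H)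
    (hh : smulPt aZ h z = k ≫ w) :
    QuotTriv.triv Scheme.fppfPrecoverage aY (z ≫ φ) ⟶ QuotTriv.triv Scheme.fppfPrecoverage aY (w ≫ φ) :=
  (exists_hom_of_smul (K := Scheme.fppfPrecoverage) (z ≫ φ) (w ≫ φ) k _ (map_cond hI z w k h hh)).choose

theorem indMap_base (hI : IsInduced i aZ aY φ) {T W : Over S} (z : T ⟶ Z) (w : W ⟶ Z) (k : T ⟶ W) (h : T ⟶ H)
    (hh : smulPt aZ h z = k ≫ w) : (indMap hI z w k h hh).base = k :=
  (exists_hom_of_smul (K := Scheme.fppfPrecoverage) (z ≫ φ) (w ≫ φ) k _ (map_cond hI z w k h hh)).choose_spec.1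

theorem indMap_top (hI : IsInduced i aZ aY φ) {T W : Over S} (z : T ⟶ Z) (w : W ⟶ Z) (k : T ⟶ W) (h : T ⟶ H)
    (hh : smulPt aZ h z = k ≫ w) :
    (indMap hI z w k h hh).top = lift (fst G T * (snd G T ≫ (h ≫ i)⁻¹)) (snd G T ≫ k) :=
  (exists_hom_of_smul (K := Scheme.fppfPrecoverage) (z ≫ φ) (w ≫ φ) k _ (map_cond hI z w k h hh)).choose_spec.2

/-- The datum of the induction. -/
noncomputable def indDatum (hI : IsInduced i aZ aY φ) :
    ActDatum aZ (AlgSt.QuotSt Scheme.fppfPrecoverage G aY) where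
  obj z := QuotTriv.triv Scheme.fppfPrecoverage aY (z ≫ φ)
  obj_p z := rfl
  map z w k h hh := indMap hI z w k h hh
  map_p z w k h hh := by
    show (indMap hI z w k h hh).base = _
    rw [indMap_base]
    simp
  map_id {T} z hh := by
    refine AlgSt.QuotObj.hom_ext (indMap_base hI _ _ _ _ _) ?_
    rw [indMap_top, MonObj.one_comp, inv_one, MonObj.comp_one, _root_.mul_one, Category.comp_id, lift_fst_snd]
    rfl
  map_comp {T W V} z w v k h hh l h' hh' hh'' := by
    refine AlgSt.QuotObj.hom_ext ?_ ?_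
    · show (indMap hI z w k h hh).base ≫ (indMap hI w v l h' hh').base = _
      rw [indMap_base, indMap_base, indMap_base]
    · show (indMap hI z w k h hh).top ≫ (indMap hI w v l h' hh').top = _
      rw [indMap_top, indMap_top, indMap_top, comp_lift, comp_mul, lift_fst, lift_snd_assoc, lift_snd_assoc,
        MonObj.mul_comp, _root_.mul_inv_rev, comp_mul, Category.assoc, Category.assoc, comp_inv k,
        _root_.mul_assoc, Category.assoc]

theorem indDatum_bij (hI : IsInduced i aZ aY φ) : (indDatum hI).Bij := by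
  intro T W z w k m hm
  have hm' : AlgSt.QuotObj.Hom.base m = k := by
    refine (hm : AlgSt.QuotObj.Hom.base m = _).trans ?_
    simp
  obtain ⟨g, hg, hgt⟩ := exists_smul_of_hom m k hm'
  obtain ⟨h, ⟨h1, h2⟩, hu⟩ := hI.bij z (k ≫ w) g (by rw [Category.assoc]; exact hg)
  refine ⟨h, ⟨h1, AlgSt.QuotObj.hom_ext ((indMap_base hI z w k h h1).trans hm'.symm) ?_⟩, fun h' ⟨hh', e⟩ => ?_⟩
  · show (indMap hI z w k h h1).top = _
    rw [indMap_top, h2, hgt]
  · refine hu h' ⟨hh', ?_⟩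
    have e' : (indMap hI z w k h' hh').top = m.top := congrArg AlgSt.QuotObj.Hom.top e
    rw [indMap_top, hgt] at e'
    have := congrArg (fun t => unitSec T ≫ t ≫ fst G W) e'
    simpa [comp_mul, MonObj.comp_mul] using this

/-- Induction gives an equivalence of quotient stacks. -/
theorem exists_equiv_induced [IsAffineHom G.hom] [IsAffineHom H.hom] (hI : IsInduced i aZ aY φ) :
    AlgSt.IsQuotientOf Scheme.fppfPrecoverage H aZ (AlgSt.QuotSt Scheme.fppfPrecoverage G aY) := by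
  let D := indDatum hI
  have hS := isStack_fppf (G := G) aY
  haveI : (QuotSh.J Scheme.fppfPrecoverage S).Subcanonical := subcanonical_J _ Scheme.fppfPrecoverage_le_fpqcPrecoverage
  haveI : Scheme.fppfPrecoverage.{u}.HasIsos :=
    ⟨fun f _ => Scheme.zariskiPrecoverage_le_fppfPrecoverage _ (Precoverage.mem_coverings_of_isIso f)⟩
  haveI : Scheme.fppfPrecoverage.{u}.IsStableUnderBaseChange :=
    inferInstanceAs (Scheme.precoverage (@Flat ⊓ @LocallyOfFinitePresentation)).IsStableUnderBaseChange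
  obtain ⟨_, _⟩ := D.fullyFaithful hS (indDatum_bij hI)
  obtain ⟨ι₀⟩ := D.comp_quotMap (K := Scheme.fppfPrecoverage) hS
  refine ⟨D.functor hS, isEquivOver_of_locally_essSurj _ (isStack_fppf aZ) (isStack_isPrestack hS) _ fun A => ?_⟩
  let J := QuotSh.J Scheme.fppfPrecoverage S
  let R : Sieve A.base :=
    { arrows := fun V f => ∃ (q : V ⟶ A.P) (z : V ⟶ Z), q ≫ A.π = f ∧ q ≫ A.φ = z ≫ φ
      downward_closed := fun {V V'} f hf l => by
        obtain ⟨q, z, h1, h2⟩ := hf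
        exact ⟨l ≫ q, l ≫ z, by rw [Category.assoc, h1], by rw [Category.assoc, h2, Category.assoc]⟩ }
  have hR : R ∈ J A.base := by
    refine J.transitive (generate_π_mem A) R fun V f hf => ?_
    obtain ⟨W, p, g, ⟨⟩, hp⟩ := hf
    obtain ⟨R', hR', hy⟩ := hI.loc (p ≫ A.φ)
    refine J.superset_covering (fun V' l hl => ?_) hR'
    obtain ⟨g, z, hz⟩ := hy l hl
    refine ⟨smulPt A.act g⁻¹ (l ≫ p), z, by rw [smulPt_π, Category.assoc, hp], ?_⟩
    rw [comp_φ, Category.assoc, hz, smulPt_inv_smul]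
  refine ⟨R, hR, fun V f hf => ?_⟩
  obtain ⟨q, z, hq, hqφ⟩ := hf
  obtain ⟨u, hu, -⟩ := exists_hom_of_point (K := Scheme.fppfPrecoverage) A q f hq (z ≫ φ) hqφ
  let a : (AlgSt.ofSch Z).obj := ⟨V, ⟨z⟩⟩
  refine ⟨(AlgSt.quotMap Scheme.fppfPrecoverage H aZ).obj a, ι₀.hom.toNatTrans.app a ≫ u, lift_mk _ ?_ rfl ?_⟩
  · exact (D.functor hS).w_obj _
  · show (AlgSt.QuotSt Scheme.fppfPrecoverage G aY).p.map _ = _
    rw [Functor.map_comp, based_app_map]
    show _ ≫ u.base = _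
    rw [hu]
    simp

theorem isInduced_of_balProd {j : G ⊗ Z ⟶ Y} (hY : ChGrp.IsBalProd Scheme.fppfPrecoverage i aZ aY j) :
    IsInduced i aZ aY (lift (toUnit Z ≫ η[G]) (𝟙 Z) ≫ j) := by
  obtain ⟨heq, hcart, hloc⟩ := hY
  have hz : ∀ {T : Over S} (z : T ⟶ Z), z ≫ lift (toUnit Z ≫ η[G]) (𝟙 Z) ≫ j = lift 1 z ≫ j := fun {T} z => by
    rw [← Hom.one_def, comp_lift_assoc, MonObj.comp_one, Category.comp_id]
  have hj : ∀ {T : Over S} (g a : T ⟶ G) (z : T ⟶ Z), smulPt aY g (lift a z ≫ j) = lift (g * a) z ≫ j :=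
    fun {T} g a z => by
      have h := congrArg (lift g (lift a z) ≫ ·) heq
      rw [AlgGrp.Action.lift_prod_act_assoc, AlgGrp.Action.lift_trivial_act, lift_whiskerLeft_assoc] at h
      rw [show lift g a ≫ (NonAbH1.trivialAction G).act = g * a from (Hom.mul_def g a).symm] at h
      exact h.symm
  refine ⟨fun {T} h z => ?_, fun {T} z w g hg => ?_, fun {V} y => ?_⟩
  · rw [hz, hz, hj, _root_.mul_one]
    have e := congrArg (lift h (lift (h ≫ i) z) ≫ ·) hcart.w
    rw [ChGrp.lift_twist_act_assoc, lift_snd_assoc, mul_inv_cancel] at e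
    exact e.symm
  · rw [hz, hz, hj, _root_.mul_one] at hg
    let p := hcart.lift (lift g w) (lift 1 z) hg
    have hp : p = lift (p ≫ fst _ _) (lift 1 z) := by
      apply CartesianMonoidalCategory.hom_ext
      · simp
      · rw [lift_snd]
        exact hcart.lift_snd _ _ _
    have h0 : lift (p ≫ fst _ _) (lift 1 z) ≫ (ChGrp.twist i aZ).act = lift g w := by
      rw [← hp]
      exact hcart.lift_fst _ _ _
    rw [ChGrp.lift_twist_act, _root_.one_mul] at h0
    refine ⟨p ≫ fst _ _, ⟨?_, ?_⟩, fun h' ⟨h1, h2⟩ => ?_⟩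
    · simpa using congrArg (· ≫ snd G Z) h0
    · simpa using congrArg (· ≫ fst G Z) h0
    · have e : lift h' (lift 1 z) = p := by
        refine hcart.hom_ext ?_ ((lift_snd _ _).trans (hcart.lift_snd _ _ _).symm)
        rw [ChGrp.lift_twist_act, _root_.one_mul, h2]
        exact (congrArg (lift g) h1).trans (hcart.lift_fst _ _ _).symm
      rw [← e, lift_fst]
  · refine ⟨_, (QuotSh.J Scheme.fppfPrecoverage S).pullback_stable y (generate_mem_of_loc j hloc), fun V' l hl => ?_⟩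
    obtain ⟨W, q, g, ⟨⟩, hq⟩ := hl
    refine ⟨q ≫ fst G Z, q ≫ snd G Z, ?_⟩
    rw [hz, hj, _root_.mul_one, ← comp_lift, lift_fst_snd, Category.comp_id, hq]

theorem isInduced_of_homog {X Q : Over S} (aX : AlgGrp.Action G X) (aQ : AlgGrp.Action G Q) (q₀ : 𝟙_ (Over S) ⟶ Q)
    (hQ : ChGrp.IsHomog Scheme.fppfPrecoverage i aQ q₀) :
    IsInduced i (aX.restrict i) (aQ.prod aX) (lift (toUnit X ≫ q₀) (𝟙 X)) := by
  obtain ⟨-, hcart, hloc⟩ := hQ
  have ho : ∀ {T : Over S} (g : T ⟶ G), g ≫ aQ.orbitMap q₀ = smulPt aQ g (toUnit T ≫ q₀) := fun g =>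
    AlgGrp.Action.comp_orbitMap aQ g q₀
  have hz : ∀ {T : Over S} (x : T ⟶ X), x ≫ lift (toUnit X ≫ q₀) (𝟙 X) = lift (toUnit T ≫ q₀) x := fun {T} x => by
    rw [comp_lift, Category.comp_id, ← Category.assoc, toUnit_unique (x ≫ toUnit X) (toUnit T)]
  have hprod : ∀ {T : Over S} (g : T ⟶ G) (a : T ⟶ Q) (b : T ⟶ X),
      smulPt (aQ.prod aX) g (lift a b) = lift (smulPt aQ g a) (smulPt aX g b) := fun g a b =>
    AlgGrp.Action.lift_prod_act aQ aX g a b
  have hres : ∀ {T : Over S} (h : T ⟶ H) (x : T ⟶ X), smulPt (aX.restrict i) h x = smulPt aX (h ≫ i) x := fun h x =>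
    AlgGrp.Action.lift_restrict_act i aX h x
  have hfix : ∀ {T : Over S} (h : T ⟶ H), smulPt aQ (h ≫ i) (toUnit T ≫ q₀) = toUnit T ≫ q₀ := fun {T} h => by
    have e := congrArg (lift 1 h ≫ ·) hcart.w
    rw [lift_fst_assoc, Category.assoc, lift_whiskerLeft_assoc, ← Category.assoc (lift _ _), ← Hom.mul_def, _root_.one_mul, ho, ho,
      smulPt_one] at e
    exact e.symm
  refine ⟨fun {T} h x => ?_, fun {T} z w g hg => ?_, fun {V} y => ?_⟩
  · rw [hz, hz, hprod, hfix, hres]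
  · rw [hz, hz, hprod] at hg
    have hg1 : smulPt aQ g (toUnit T ≫ q₀) = toUnit T ≫ q₀ := by simpa using congrArg (· ≫ fst Q X) hg
    have hg2 : smulPt aX g w = z := by simpa using congrArg (· ≫ snd Q X) hg
    let p := hcart.lift 1 g (by rw [ho, ho, smulPt_one, hg1])
    have hp : p = lift 1 (p ≫ snd G H) := by
      apply CartesianMonoidalCategory.hom_ext
      · rw [lift_fst]
        exact hcart.lift_fst _ _ _
      · simp
    have h0 : lift 1 (p ≫ snd G H) ≫ (G ◁ i) ≫ μ[G] = g := by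
      rw [← hp]
      exact hcart.lift_snd _ _ _
    rw [lift_whiskerLeft_assoc, ← Hom.mul_def, _root_.one_mul] at h0
    refine ⟨(p ≫ snd G H)⁻¹, ⟨?_, ?_⟩, fun h' ⟨h1, h2⟩ => ?_⟩
    · rw [hres, GrpObj.inv_comp, h0, ← hg2, smulPt_inv_smul]
    · rw [GrpObj.inv_comp, _root_.inv_inv, h0]
    · have e : lift 1 h'⁻¹ = p := by
        refine hcart.hom_ext ((lift_fst _ _).trans (hcart.lift_fst _ _ _).symm) ?_
        rw [lift_whiskerLeft_assoc, ← Hom.mul_def, _root_.one_mul, GrpObj.inv_comp, h2]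
        exact (hcart.lift_snd _ _ _).symm
      rw [← e, lift_snd, _root_.inv_inv]
  · refine ⟨_, (QuotSh.J Scheme.fppfPrecoverage S).pullback_stable (y ≫ fst Q X)
      (generate_mem_of_loc (aQ.orbitMap q₀) hloc), fun V' l hl => ?_⟩
    obtain ⟨W, g, g', ⟨⟩, hg⟩ := hl
    refine ⟨g, smulPt aX g⁻¹ (l ≫ y ≫ snd Q X), ?_⟩
    rw [hz, hprod, ← ho, hg, smulPt_smul_inv]
    apply CartesianMonoidalCategory.hom_ext <;> simp

end Groth.Agent.Stk19b.Quot
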