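import Groth.Agent.Stk19b.QuotTriv
import Groth.Agent.Stk19.Fp
import Groth.Agent.Stk19.Equiv

/-! The square of the action and the projection over `X ⟶ [X/G]` is 2-cartesian. -/

set_option autoImplicit false
set_option backward.isDefEq.respectTransparency false
set_option backward.isDefEq.respectTransparency.types false

universe u

open CategoryTheory CategoryTheory.Limits AlgebraicGeometry MonoidalCategory CartesianMonoidalCategory MonObj GrpObj
open Groth.Agent.Stk19b.QuotTriv Groth.Agent.Stk19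

namespace Groth.Agent.Stk19b.Quot

variable {S : Scheme.{u}} {G X : Over S} [GrpObj G]

theorem rightMul_comm {T T' : Over S} {f f' : T ⟶ T'} {g : T ⟶ G} {g' : T' ⟶ G} :
    (G ◁ f) ≫ lift (fst G T' * (snd G T' ≫ g')) (snd G T') =
        lift (fst G T * (snd G T ≫ g)) (snd G T) ≫ (G ◁ f') ↔ f = f' ∧ f ≫ g' = g := by
  refine ⟨fun h => ⟨?_, ?_⟩, ?_⟩
  · have := congrArg (fun k => lift (1 : T ⟶ G) (𝟙 T) ≫ k ≫ snd G T') h
    simpa using this
  · have := congrArg (fun k => lift (1 : T ⟶ G) (𝟙 T) ≫ k ≫ fst G T') h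
    simpa [MonObj.comp_mul] using this
  · rintro ⟨rfl, rfl⟩
    apply CartesianMonoidalCategory.hom_ext <;> simp [MonObj.comp_mul]

/-- Morphisms of the category of a scheme. -/
def schHom {Y : Over S} {a b : (AlgSt.ofSch Y).obj} (f : a.base ⟶ b.base) (h : f ≫ b.sec.down = a.sec.down) :
    a ⟶ b :=
  ⟨f, congrArg ULift.up h⟩

theorem schHom_sec {Y : Over S} {a b : (AlgSt.ofSch Y).obj} (φ : a ⟶ b) : φ.hom ≫ b.sec.down = a.sec.down :=
  congrArg ULift.down φ.map_sec

/-- Isomorphisms of the category of a scheme. -/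
def schIso {Y : Over S} {a b : (AlgSt.ofSch Y).obj} (f : a.base ≅ b.base) (h : f.hom ≫ b.sec.down = a.sec.down) :
    a ≅ b where
  hom := schHom f.hom h
  inv := schHom f.inv (by rw [← h, f.inv_hom_id_assoc])
  hom_inv_id := Stk.EltObj.hom_ext f.hom_inv_id
  inv_hom_id := Stk.EltObj.hom_ext f.inv_hom_id

variable (K : Precoverage Scheme.{u}) [K.HasIsos] (aX : AlgGrp.Action G X)

/-- The first side of the square. -/
noncomputable abbrev actMap : AlgSt.ofSch (G ⊗ X) ⥤ᵇ AlgSt.ofSch X := AlgSt.ofSpMap ((AlgSp.yon S).map aX.act)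

variable (G X) in
/-- The second side of the square. -/
noncomputable abbrev sndMap : AlgSt.ofSch (G ⊗ X) ⥤ᵇ AlgSt.ofSch X :=
  AlgSt.ofSpMap ((AlgSp.yon S).map (snd G X))

/-- The group component of a point. -/
noncomputable abbrev gPt (a : (AlgSt.ofSch (G ⊗ X)).obj) : a.base ⟶ G := a.sec.down ≫ fst G X

/-- The component of the 2-isomorphism: right multiplication by the group component. -/
theorem exists_app (a : (AlgSt.ofSch (G ⊗ X)).obj) :
    ∃ h : (AlgSt.quotMap K G aX).obj ((actMap aX).obj a) ⟶ (AlgSt.quotMap K G aX).obj ((sndMap G X).obj a),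
      h.base = 𝟙 a.base ∧ h.top = lift (fst G a.base * (snd G a.base ≫ gPt a)) (snd G a.base) := by
  obtain ⟨h, h1, h2⟩ := exists_hom_of_smul (K := K) (aX := aX) (a.sec.down ≫ aX.act) (a.sec.down ≫ snd G X)
    (𝟙 a.base) (gPt a) (by
      rw [Category.id_comp]
      show lift (a.sec.down ≫ fst G X) (a.sec.down ≫ snd G X) ≫ aX.act = _
      rw [← comp_lift_assoc, lift_fst_snd, Category.id_comp])
  exact ⟨h, h1, h2.trans (by rw [Category.comp_id])⟩

/-- The 2-isomorphism of the square. -/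
theorem exists_square :
    ∃ e : BasedFunctor.comp (actMap aX) (AlgSt.quotMap K G aX) ≅
        BasedFunctor.comp (sndMap G X) (AlgSt.quotMap K G aX),
      ∀ a, (e.hom.toNatTrans.app a).top = lift (fst G a.base * (snd G a.base ≫ gPt a)) (snd G a.base) := by
  choose app hb ht using exists_app (G := G) (X := X) K aX
  haveI : ∀ a, IsIso (app a) := fun a =>
    haveI : IsIso (app a).base := by rw [hb]; exact inferInstanceAs (IsIso (𝟙 a.base))
    isIso_of_base _
  refine ⟨isoMk (fun a => asIso (app a)) (fun a => ?_) (fun {a b} φ => ?_), ht⟩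
  · exact vert_of_map_eq _ (h := rfl) (hb a)
  · refine AlgSt.QuotObj.hom_ext ?_ ?_
    · show φ.hom ≫ (app b).base = (app a).base ≫ φ.hom
      rw [hb, hb]
      exact (Category.comp_id _).trans (Category.id_comp _).symm
    · show (G ◁ φ.hom) ≫ (app b).top = (app a).top ≫ (G ◁ φ.hom)
      rw [ht, ht]
      exact rightMul_comm.2 ⟨rfl, (Category.assoc _ _ _).symm.trans (congrArg (· ≫ fst G X) (schHom_sec φ))⟩

theorem exists_twoCart :
    ∃ e : BasedFunctor.comp (actMap aX) (AlgSt.quotMap K G aX) ≅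
        BasedFunctor.comp (sndMap G X) (AlgSt.quotMap K G aX),
      FibCat.IsTwoCartOver (actMap aX) (sndMap G X) e := by
  obtain ⟨e, he⟩ := exists_square (G := G) (X := X) K aX
  refine ⟨e, EqvData.isEquivOver ⟨⟨fun {a b} t => ?_⟩, ⟨fun {a b} φ ψ h => ?_⟩, fun z => ?_⟩⟩
  · let f : a.base ⟶ b.base := t.hom.fst.hom
    have hf1 : f ≫ b.sec.down ≫ aX.act = a.sec.down ≫ aX.act := schHom_sec t.hom.fst
    have hf2 : t.hom.snd.hom ≫ b.sec.down ≫ snd G X = a.sec.down ≫ snd G X := schHom_sec t.hom.snd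
    have hw : (G ◁ f) ≫ (e.hom.toNatTrans.app b).top = (e.hom.toNatTrans.app a).top ≫ (G ◁ t.hom.snd.hom) :=
      congrArg AlgSt.QuotObj.Hom.top t.hom.w
    rw [he, he] at hw
    obtain ⟨hbase, hg⟩ := rightMul_comm.1 hw
    have hsec : f ≫ b.sec.down = a.sec.down := by
      apply CartesianMonoidalCategory.hom_ext
      · rw [Category.assoc]; exact hg
      · rw [Category.assoc, hbase]; exact hf2
    exact ⟨schHom f hsec, fp_hom_ext (Stk.EltObj.hom_ext rfl) (Stk.EltObj.hom_ext hbase)⟩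
  · exact Stk.EltObj.hom_ext (congrArg (fun t => t.hom.fst.hom) h)
  · let y := z.obj.fst
    let x := z.obj.snd
    let f : y.base ⟶ x.base := eqToHom (fp_base_eq z).symm
    have hb : z.obj.iso.hom.base = f := fp_iso_map z
    obtain ⟨g, hg, htop⟩ := exists_smul_of_hom (K := K) (aX := aX) (x := y.sec.down) (x' := x.sec.down)
      z.obj.iso.hom f hb
    let a : (AlgSt.ofSch (G ⊗ X)).obj := ⟨y.base, ⟨lift g (f ≫ x.sec.down)⟩⟩
    let i₁ : (actMap aX).obj a ≅ y := schIso (Iso.refl _) (by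
      show 𝟙 _ ≫ y.sec.down = lift g (f ≫ x.sec.down) ≫ aX.act
      rw [Category.id_comp]
      exact hg.symm)
    let i₂ : (sndMap G X).obj a ≅ x := schIso (eqToIso (fp_base_eq z).symm) (by
      show f ≫ x.sec.down = lift g (f ≫ x.sec.down) ≫ snd G X
      rw [lift_snd])
    refine ⟨a, fpIsoMk i₁ i₂ (AlgSt.QuotObj.hom_ext ?_ ?_), ?_⟩
    · show 𝟙 y.base ≫ z.obj.iso.hom.base = (e.hom.toNatTrans.app a).base ≫ f
      have := based_app_map e.hom a
      rw [show (e.hom.toNatTrans.app a).base = 𝟙 y.base from this, hb]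
    · show (G ◁ 𝟙 y.base) ≫ z.obj.iso.hom.top = (e.hom.toNatTrans.app a).top ≫ (G ◁ f)
      rw [he, MonoidalCategory.whiskerLeft_id, Category.id_comp]
      refine htop.trans ?_
      apply CartesianMonoidalCategory.hom_ext <;> simp [gPt, a]
    · exact fpIsoMk_vert _ _ _ (vert_of_map_eq (AlgSt.ofSch X).p (h := rfl) (φ := i₁.hom) rfl)

end Groth.Agent.Stk19b.Quot
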