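import Groth.Agent.Stk19b.Quot.Stack
import Groth.Agent.Stk19b.Quot.TwoCart
import Groth.Prelude.Def_AlgSt5

/-! Functors from `[X/G]` to the category of a sheaf: invariant morphisms descend. -/

set_option autoImplicit false
set_option backward.isDefEq.respectTransparency false
set_option backward.isDefEq.respectTransparency.types false

universe u v

open CategoryTheory CategoryTheory.Limits AlgebraicGeometry MonoidalCategory CartesianMonoidalCategory MonObj GrpObj Opposite

namespace Groth.Agent.Stk19b.Quot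

section General

variable {C : Type u} [Category.{v} C] {P : Cᵒᵖ ⥤ Type (max u v)}

theorem eltObj_ext {a b : Stk.EltObj P} (h : a.base = b.base) (hs : P.map (eqToHom h).op b.sec = a.sec) :
    a = b := by
  obtain ⟨a, s⟩ := a
  obtain ⟨b, t⟩ := b
  obtain rfl : a = b := h
  obtain rfl : t = s := by simpa using hs
  rfl

theorem eltObj_eqToHom_hom {a b : Stk.EltObj P} (h : a = b) :
    (eqToHom h).hom = eqToHom (congrArg Stk.EltObj.base h) := by
  subst h; rfl

end General

variable {S : Scheme.{u}} {G X : Over S} [GrpObj G] {K : Precoverage Scheme.{u}} {aX : AlgGrp.Action G X}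

/-- The structure map of a torsor generates a covering sieve. -/
theorem generate_π_mem (A : AlgSt.QuotObj K G aX) :
    Sieve.generate (Presieve.singleton A.π) ∈ QuotSh.J K S A.base := by
  rw [GrothendieckTopology.mem_over_iff]
  obtain ⟨R, hR, hs⟩ := A.loc
  refine K.toGrothendieck.superset_covering ?_ (Precoverage.generate_mem_toGrothendieck hR)
  rw [Sieve.generate_le_iff]
  intro S' g hg
  obtain ⟨v, hv⟩ := hs g hg
  let Z : Over S := Over.mk (g ≫ A.base.hom)
  let t : Z ⟶ A.P := Over.homMk v (by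
    show v ≫ A.P.hom = g ≫ A.base.hom
    rw [← Over.w A.π, ← Category.assoc]
    exact congrArg (· ≫ A.base.hom) hv)
  refine (Sieve.overEquiv_iff _ g).2 ?_
  exact ⟨_, t, A.π, ⟨⟩, Over.OverMorphism.ext hv⟩

variable {M : Sheaf (QuotSh.J K S) (Type (u + 1))}

/-- Descent of a section along a torsor. -/
theorem existsUnique_sec (A : AlgSt.QuotObj K G aX) (x : M.obj.obj (op A.P))
    (hx : M.obj.map A.act.act.op x = M.obj.map (snd G A.P).op x) :
    ∃! y : M.obj.obj (op A.base), M.obj.map A.π.op y = x := by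
  have h : Presieve.IsSheafFor M.obj (Presieve.singleton A.π) :=
    (Presieve.isSheafFor_iff_generate _).2
      ((((isSheaf_iff_isSheaf_of_type _ _).1 M.property) _ (generate_π_mem A)))
  refine Presieve.isSheafFor_singleton.1 h x fun {Z} p₁ p₂ w => ?_
  rw [← A.cart.lift_fst p₁ p₂ w]
  nth_rw 2 [← A.cart.lift_snd p₁ p₂ w]
  simp only [op_comp, Functor.map_comp_apply, hx]

theorem map_app {N : Sheaf (QuotSh.J K S) (Type (u + 1))} (f : N ⟶ M) {Z Z' : Over S} (k : Z' ⟶ Z)
    (r : N.obj.obj (op Z)) : M.obj.map k.op (f.hom.app (op Z) r) = f.hom.app (op Z') (N.obj.map k.op r) :=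
  (NatTrans.naturality_apply f.hom k.op r).symm

end Groth.Agent.Stk19b.Quot

namespace Groth.Agent.Stk19b.Quot

variable {S : Scheme.{u}} {G X : Over S} [GrpObj G] {K : Precoverage Scheme.{u}} {aX : AlgGrp.Action G X}
variable {M N : Sheaf (QuotSh.J K S) (Type (u + 1))}

/-- An invariant natural family of sections descends to a functor on `[X/G]`, uniquely. -/
theorem exists_descend [K.HasIsos] (M : Sheaf (QuotSh.J K S) (Type (u + 1)))
    (x : ∀ {Z : Over S}, (Z ⟶ X) → M.obj.obj (op Z))
    (hnat : ∀ {Z Z' : Over S} (k : Z' ⟶ Z) (r : Z ⟶ X), M.obj.map k.op (x r) = x (k ≫ r))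
    (hinv : ∀ {Z : Over S} (q : Z ⟶ G ⊗ X), x (q ≫ aX.act) = x (q ≫ snd G X)) :
    ∃ φ : AlgSt.QuotSt K G aX ⥤ᵇ Stk.ofPsh M.obj,
      (∀ a, (BasedFunctor.comp (AlgSt.quotMap K G aX) φ).obj a = ⟨a.base, x a.sec.down⟩) ∧
      ∀ ψ : AlgSt.QuotSt K G aX ⥤ᵇ Stk.ofPsh M.obj,
        (∀ a, (BasedFunctor.comp (AlgSt.quotMap K G aX) ψ).obj a = ⟨a.base, x a.sec.down⟩) → ψ = φ := by
  have hs : ∀ A : AlgSt.QuotObj K G aX, ∃! y : M.obj.obj (op A.base), M.obj.map A.π.op y = x A.φ := fun A => by
    refine existsUnique_sec A _ ?_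
    rw [hnat, hnat, A.eqv, hinv, whiskerLeft_snd]
  choose sec hsec huniq using hs
  let φ : AlgSt.QuotSt K G aX ⥤ᵇ Stk.ofPsh M.obj :=
    { toFunctor :=
        { obj := fun A => ⟨A.base, sec A⟩
          map := fun {A B} h => ⟨h.base, huniq A _ (by
            show M.obj.map A.π.op (M.obj.map h.base.op (sec B)) = _
            rw [← Functor.map_comp_apply, ← op_comp, ← h.cart.w, op_comp, Functor.map_comp_apply, hsec B, hnat,
              h.wφ])⟩
          map_id := fun A => Stk.EltObj.hom_ext rfl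
          map_comp := fun h k => Stk.EltObj.hom_ext rfl }
      w := rfl }
  refine ⟨φ, fun a => ?_, fun ψ hψ => ?_⟩
  · refine congrArg (Stk.EltObj.mk a.base) ((huniq ((AlgSt.quotMap K G aX).obj a) (x a.sec.down) ?_).symm)
    show M.obj.map (snd G a.base).op (x a.sec.down) = x ((G ◁ a.sec.down) ≫ aX.act)
    rw [hnat, hinv, whiskerLeft_snd]
  · have hb : ∀ A : AlgSt.QuotObj K G aX, (ψ.obj A).base = A.base := fun A => Functor.congr_obj ψ.w A
    have hobj : ∀ A : AlgSt.QuotObj K G aX, ψ.obj A = φ.obj A := fun A => by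
      have hA : ∃ k : (AlgSt.quotMap K G aX).obj ⟨A.P, ⟨A.φ⟩⟩ ⟶ A, k.base = A.π :=
        ⟨{ base := A.π
           top := A.act.act
           eqv := by
             rw [QuotTriv.whiskerLeft_eq]
             show QuotTriv.smulPt A.act (fst G (G ⊗ A.P) * (snd G (G ⊗ A.P) ≫ fst G A.P))
               (snd G (G ⊗ A.P) ≫ snd G A.P) = QuotTriv.smulPt A.act (fst G (G ⊗ A.P)) (snd G (G ⊗ A.P) ≫ A.act.act)
             rw [QuotTriv.smulPt_mul, ← QuotTriv.comp_smulPt]
             show _ = QuotTriv.smulPt A.act _ _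
             congr 2
             show lift (fst G A.P) (snd G A.P) ≫ A.act.act = A.act.act
             rw [lift_fst_snd, Category.id_comp]
           cart := A.cart
           wφ := A.eqv }, rfl⟩
      obtain ⟨k, hk⟩ := hA
      let k' : (⟨A.P, x A.φ⟩ : Stk.EltObj M.obj) ⟶ ψ.obj A := eqToHom (hψ ⟨A.P, ⟨A.φ⟩⟩).symm ≫ ψ.map k
      have e : k'.hom = A.π ≫ eqToHom (hb A).symm := by
        have := Functor.congr_hom ψ.w k
        change (ψ.map k).hom = _ at this
        show Stk.EltObj.Hom.hom (eqToHom (hψ ⟨A.P, ⟨A.φ⟩⟩).symm ≫ ψ.map k) = _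
        rw [Stk.EltObj.comp_hom, eltObj_eqToHom_hom, this]
        simp
        exact congrArg (· ≫ eqToHom (hb A).symm) hk
      refine eltObj_ext (hb A) ?_
      show M.obj.map (eqToHom (hb A)).op (sec A) = _
      have e2 : M.obj.map A.π.op (M.obj.map (eqToHom (hb A).symm).op (ψ.obj A).sec) = x A.φ := by
        rw [← Functor.map_comp_apply, ← op_comp, ← e]
        exact k'.map_sec
      rw [← huniq A _ e2, ← Functor.map_comp_apply, ← op_comp]
      simp
    cases ψ with
    | mk F w =>
      have : F = φ.toFunctor := by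
        refine CategoryTheory.Functor.ext hobj fun A B h => Stk.EltObj.hom_ext ?_
        have := Functor.congr_hom w h
        change (F.map h).hom = _ at this
        rw [Stk.EltObj.comp_hom, Stk.EltObj.comp_hom, eltObj_eqToHom_hom, eltObj_eqToHom_hom]
        exact this
      subst this
      rfl

end Groth.Agent.Stk19b.Quot
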