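import Groth.Agent.Stk19b.Quot.ToSheaf
import Groth.Agent.Stk19.AlgSt.Sp

/-! Functors from `[X/G]` to a sheaf correspond to invariant maps. -/

set_option autoImplicit false
set_option backward.isDefEq.respectTransparency false
set_option backward.isDefEq.respectTransparency.types false

universe u

open CategoryTheory CategoryTheory.Limits AlgebraicGeometry MonoidalCategory CartesianMonoidalCategory MonObj GrpObj Opposite
open Groth.Agent.Stk19 Groth.Agent.Desc19

namespace Groth.Agent.Stk19b.Quot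

section General

universe v₂ u₂

variable {C : Type (u + 1)} [Category.{u} C] {P : Cᵒᵖ ⥤ Type (u + 1)} {𝒲 : BasedCategory.{v₂, u₂} C}

theorem basedFunctor_ext {φ ψ : 𝒲 ⥤ᵇ Stk.ofPsh P} (h : ∀ a, φ.obj a = ψ.obj a) : φ = ψ := by
  obtain ⟨F, w⟩ := φ
  obtain ⟨F', w'⟩ := ψ
  have : F = F' := by
    refine CategoryTheory.Functor.ext h fun A B k => Stk.EltObj.hom_ext ?_
    have e := Functor.congr_hom w k
    have e' := Functor.congr_hom w' k
    change (F.map k).hom = _ at e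
    change (F'.map k).hom = _ at e'
    rw [Stk.EltObj.comp_hom, Stk.EltObj.comp_hom, eltObj_eqToHom_hom, eltObj_eqToHom_hom, e, e']
    simp
  subst this
  rfl

/-- The category of a presheaf is fibred in sets: isomorphic functors into it are equal. -/
theorem eq_of_iso {φ ψ : 𝒲 ⥤ᵇ Stk.ofPsh P} (α : φ ≅ ψ) : φ = ψ := basedFunctor_ext fun a => by
  have h : (α.hom.toNatTrans.app a).hom = eqToHom ((φ.w_obj a).trans (ψ.w_obj a).symm) := based_app_map α.hom a
  exact eltObj_ext ((φ.w_obj a).trans (ψ.w_obj a).symm)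
    ((congrArg (fun k => P.map k.op (ψ.obj a).sec) h.symm).trans (α.hom.toNatTrans.app a).map_sec)

end General

variable {S : Scheme.{u}} {G X : Over S} [GrpObj G] {aX : AlgGrp.Action G X} {N : AlgSp.Sp S}

/-- The composite with the canonical map is an invariant map. -/
theorem exists_inv (φ : AlgSt.QuotSt Scheme.fppfPrecoverage G aX ⥤ᵇ AlgSt.ofSp N) :
    ∃ f : (AlgSp.yon S).obj X ⟶ N,
      (AlgSp.yon S).map aX.act ≫ f = (AlgSp.yon S).map (snd G X) ≫ f ∧
        BasedFunctor.comp (AlgSt.quotMap Scheme.fppfPrecoverage G aX) φ = AlgSt.ofSpMap f := by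
  obtain ⟨i⟩ := spHom_iso (BasedFunctor.comp (AlgSt.quotMap Scheme.fppfPrecoverage G aX) φ)
  refine ⟨_, ?_, eq_of_iso i⟩
  obtain ⟨e, -⟩ := exists_square Scheme.fppfPrecoverage aX
  have k := (postB _ φ).mapIso e
  have h : BasedFunctor.comp (actMap aX) (AlgSt.ofSpMap (spHom (BasedFunctor.comp (AlgSt.quotMap Scheme.fppfPrecoverage G aX) φ))) =
      BasedFunctor.comp (sndMap G X) (AlgSt.ofSpMap (spHom (BasedFunctor.comp (AlgSt.quotMap Scheme.fppfPrecoverage G aX) φ))) := by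
    rw [← eq_of_iso i]
    exact eq_of_iso k
  exact ofSpMap_inj (eqToIso h).hom

/-- Functors with equal composites are equal. -/
theorem eq_of_comp {φ ψ : AlgSt.QuotSt Scheme.fppfPrecoverage G aX ⥤ᵇ AlgSt.ofSp N}
    (h : BasedFunctor.comp (AlgSt.quotMap Scheme.fppfPrecoverage G aX) φ =
      BasedFunctor.comp (AlgSt.quotMap Scheme.fppfPrecoverage G aX) ψ) : φ = ψ := by
  obtain ⟨f, hf, hφ⟩ := exists_inv φ
  obtain ⟨χ, -, hu⟩ := exists_descend (K := Scheme.fppfPrecoverage) (aX := aX) N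
    (fun {Z} r => f.hom.app (op Z) ⟨r⟩) (fun k r => map_app f k _) (fun {Z} q =>
      congrArg (fun g : (AlgSp.yon S).obj (G ⊗ X) ⟶ N => g.hom.app (op Z) ⟨q⟩) hf)
  have e : ∀ θ : AlgSt.QuotSt Scheme.fppfPrecoverage G aX ⥤ᵇ AlgSt.ofSp N,
      BasedFunctor.comp (AlgSt.quotMap Scheme.fppfPrecoverage G aX) θ = AlgSt.ofSpMap f → θ = χ :=
    fun θ hθ => hu θ fun a => congrArg (fun ξ : AlgSt.ofSch X ⥤ᵇ AlgSt.ofSp N => ξ.obj a) hθ
  rw [e φ hφ, e ψ (h.symm.trans hφ)]

/-- An invariant map descends. -/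
theorem exists_of_inv (f : (AlgSp.yon S).obj X ⟶ N)
    (hf : (AlgSp.yon S).map aX.act ≫ f = (AlgSp.yon S).map (snd G X) ≫ f) :
    ∃ φ : AlgSt.QuotSt Scheme.fppfPrecoverage G aX ⥤ᵇ AlgSt.ofSp N,
      BasedFunctor.comp (AlgSt.quotMap Scheme.fppfPrecoverage G aX) φ = AlgSt.ofSpMap f := by
  obtain ⟨φ, hφ, -⟩ := exists_descend (K := Scheme.fppfPrecoverage) (aX := aX) N
    (fun {Z} r => f.hom.app (op Z) ⟨r⟩) (fun k r => map_app f k _) (fun {Z} q =>
      congrArg (fun g : (AlgSp.yon S).obj (G ⊗ X) ⟶ N => g.hom.app (op Z) ⟨q⟩) hf)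
  exact ⟨φ, basedFunctor_ext hφ⟩

/-- A representable sheaf is the sheaf of a scheme. -/
theorem exists_yon_iso (h : N.obj.IsRepresentable) : ∃ Z : Over S, Nonempty ((AlgSp.yon S).obj Z ≅ N) := by
  obtain ⟨Z, ⟨e⟩⟩ := h.has_representation
  exact ⟨Z, ⟨(fullyFaithfulSheafToPresheaf _ _).preimageIso (Functor.RepresentableBy.equivUliftYonedaIso _ _ e)⟩⟩

theorem isRepresentable_yon (Y : Over S) : ((AlgSp.yon S).obj Y).obj.IsRepresentable :=
  ⟨Y, ⟨(Functor.RepresentableBy.equivUliftYonedaIso _ _).symm (Iso.refl _)⟩⟩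

end Groth.Agent.Stk19b.Quot
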