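import Groth.Agent.Stk19b.Quot.AlgStack
import Groth.Agent.Stk19b.AffineDescent
import Groth.Agent.Stk19b.ProdSq

/-! The diagonal of `[X/G]` is affine when `G` is affine and `X` has affine diagonal. -/

set_option autoImplicit false
set_option linter.style.haveILetI false
set_option backward.isDefEq.respectTransparency false
set_option backward.isDefEq.respectTransparency.types false

universe u

open CategoryTheory CategoryTheory.Limits AlgebraicGeometry MonoidalCategory CartesianMonoidalCategory MonObj GrpObj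
open Groth.Agent.Stk19 FibCat

namespace Groth.Agent.Stk19b.Quot

variable {S : Scheme.{u}} {G X : Over S} [GrpObj G] (aX : AlgGrp.Action G X)

theorem isAffineHom_pair [IsAffineHom G.hom] (hX : IsAffineHom (pullback.diagonal X.hom)) :
    IsAffineHom (lift aX.act (snd G X)).left := by
  haveI : MorphismProperty.HasOfPostcompProperty @IsAffineHom (MorphismProperty.diagonal @IsAffineHom) :=
    MorphismProperty.hasOfPostcompProperty_iff_le_diagonal.2 le_rfl
  have hd : MorphismProperty.diagonal @IsAffineHom (snd X X).left :=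
    MorphismProperty.of_isPullback (P := MorphismProperty.diagonal @IsAffineHom) (isPullback_left_snd X) hX
  refine MorphismProperty.of_postcomp @IsAffineHom _ (snd X X).left hd ?_
  rw [← Over.comp_left, lift_snd]
  exact MorphismProperty.of_isPullback (P := @IsAffineHom) (isPullback_left_snd X) ‹IsAffineHom G.hom›

theorem repWith_affine_fpToProd [IsAffineHom G.hom] (hX : IsAffineHom (pullback.diagonal X.hom))
    (K : Precoverage Scheme.{u}) [K.HasIsos] :
    AlgSt.RepByAlgSpWith AlgSp.IsAffineMor (fpToProd (AlgSt.quotMap K G aX) (AlgSt.quotMap K G aX)) := by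
  obtain ⟨e, he⟩ := exists_twoCart (G := G) (X := X) K aX
  obtain ⟨E, hE, h₁, h₂⟩ := exists_prod_equiv X X
  let p : G ⊗ X ⟶ X ⊗ X := lift aX.act (snd G X)
  haveI := isAffineHom_pair aX hX
  have hp : AlgSt.RepByAlgSpWith AlgSp.IsAffineMor (AlgSt.ofSpMap ((AlgSp.yon S).map p)) :=
    repByAlgSpWith_ofSpMap pbStable_affine (V := ⟨_, AlgSp.IsAlgSpace.yon_obj _⟩)
      (Z := ⟨_, AlgSp.IsAlgSpace.yon_obj _⟩) _
      (AlgSpLib.isAffineMor_of_repWith ((AlgSp.repWith_yon_map_iff _ p).2 inferInstance))
  obtain ⟨i⟩ := nonempty_iso_prod (H := BasedFunctor.comp (AlgSt.ofSpMap ((AlgSp.yon S).map p)) E)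
    (K := BasedFunctor.comp (fpLift (actMap aX) (sndMap G X) e)
      (fpToProd (AlgSt.quotMap K G aX) (AlgSt.quotMap K G aX)))
    (eqToIso (by
      show BasedFunctor.comp (AlgSt.ofSpMap _) (BasedFunctor.comp E (fpFst _ _)) = actMap aX
      rw [h₁, ofSpMap_comp, ← Functor.map_comp, lift_fst]))
    (eqToIso (by
      show BasedFunctor.comp (AlgSt.ofSpMap _) (BasedFunctor.comp E (fpSnd _ _)) =
        BasedFunctor.comp (fpLift (actMap aX) (sndMap G X) e) (fpSnd _ _)
      rw [h₂, ofSpMap_comp, ← Functor.map_comp, lift_snd]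
      exact (based_ext rfl).symm))
  exact (repByAlgSpWith_iff_of_square (f' := AlgSt.ofSpMap ((AlgSp.yon S).map p)) he hE i).1 hp

theorem repWith_affine_diag [IsAffineHom G.hom] [Smooth G.hom] (hX : IsAffineHom (pullback.diagonal X.hom)) :
    AlgSt.RepByAlgSpWith AlgSp.IsAffineMor
      (FibCat.diag (toSelf (AlgSt.QuotSt Scheme.etalePrecoverage G aX))) := by
  haveI := hasIsos_etale.{u}
  haveI := stable_etale.{u}
  let q := AlgSt.quotMap Scheme.etalePrecoverage G aX
  have hle := etale_le_fpqc.{u}
  have h0 : FibCat.IsFibGrpd (AlgSt.QuotSt Scheme.etalePrecoverage G aX).p := isFibGrpd G _ aX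
  have hsch : FibCat.IsFibGrpd (AlgSt.ofSch X).p := (setoid_ofSp _).1
  have hq : ∀ {P : MorphismProperty (AlgSp.Sp S)}, AlgSt.RepByAlgSpWith P (atlas G Scheme.etalePrecoverage aX) →
      AlgSt.RepByAlgSpWith P q := fun h => with_equiv_comp (isEquivOver_toOverCat X) h
  have hpp : ∀ {P : MorphismProperty (AlgSp.Sp S)}, RespSrc P → AtlasDescent P → CompStable P →
      AlgSt.RepByAlgSpWith P q → AlgSt.RepByAlgSpWith P (prodPair q q) := fun hR hD hC h => by
    have hm := repByAlgSpWith_of_iso (prodMapFactor q q)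
      (repByAlgSpWith_comp_desc hR hD hC (fibGrpd_fp hsch hsch fibGrpd_selfOver _ _)
        (fibGrpd_fp h0 hsch fibGrpd_selfOver _ _) (prodLeft_with h) (prodRight_with h))
    exact hm
  refine with_of_cover (respSrc_of_baseChange pbStable_affine) schDescent_affine (repByAlgSp1_diag aX)
    (g := prodPair q q)
    (hpp (respSrc_locP AlgSpLib.etLocal_flat) (atlasDescent_locP AlgSpLib.etLocal_flat)
      (compStable_locP AlgSpLib.etLocal_flat) (hq (rep_flat hle)))
    (hpp (respSrc_locP AlgSpLib.etLocal_lfp) (atlasDescent_locP AlgSpLib.etLocal_lfp)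
      (compStable_locP AlgSpLib.etLocal_lfp) (hq (rep_lfp hle)))
    (hpp respSrc_surjective atlasDescent_surjective compStable_surjective (hq (rep_surjective hle))) ?_
  exact (repByAlgSpWith_iff_of_square (f' := fpToProd q q) (f := fpFst (prodPair q q) (FibCat.diag (toSelf _)))
    (a := magicSquare q q) (b := BasedFunctor.id _) (isEquivOver_magicSquare q q) (isEquivOver_id _) (Iso.refl _)).1
    (repWith_affine_fpToProd aX hX _)

end Groth.Agent.Stk19b.Quot
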