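import Groth.Agent.Stk19b.Quot.Atlas
import Groth.Agent.Stk19b.RepCrit

/-! `[X/G]` for smooth affine `G` is an algebraic stack for the etale topology. -/

set_option autoImplicit false
set_option linter.style.haveILetI false
set_option backward.isDefEq.respectTransparency false
set_option backward.isDefEq.respectTransparency.types false

universe u

open CategoryTheory CategoryTheory.Limits AlgebraicGeometry MonoidalCategory CartesianMonoidalCategory MonObj GrpObj
open Groth.Agent.Stk19

namespace Groth.Agent.Stk19b.Quot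

variable {S : Scheme.{u}} {G X : Over S} [GrpObj G] (aX : AlgGrp.Action G X)

theorem hasIsos_etale : Scheme.etalePrecoverage.{u}.HasIsos :=
  inferInstanceAs (Scheme.precoverage @Etale).HasIsos

theorem stable_etale : Scheme.etalePrecoverage.{u}.IsStableUnderBaseChange :=
  inferInstanceAs (Scheme.precoverage @Etale).IsStableUnderBaseChange

theorem etale_le_fpqc : Scheme.etalePrecoverage.{u} ≤ Scheme.fpqcPrecoverage :=
  Scheme.etalePrecoverage_le_proetalePrecoverage.trans Scheme.proetalePrecoverage_le_fpqcPrecoverage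

variable (G) in
theorem isPrestack_fppf (K : Precoverage Scheme.{u}) [K.IsStableUnderBaseChange] :
    Stk.IsPrestack (AlgSp.J S) (AlgSt.QuotSt K G aX) := by
  haveI := subcanonical_J (S := S) Scheme.fppfPrecoverage Scheme.fppfPrecoverage_le_fpqcPrecoverage
  exact ⟨isFibGrpd G K aX, fun U R hR => (isPrestackFor_iff_glue (isFibGrpd G K aX) R).2 (homGlue _ hR)⟩

/-- An etale surjection after which a torsor has a point. -/
theorem exists_etale_point (A : AlgSt.QuotObj Scheme.etalePrecoverage G aX) :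
    ∃ (U' : Over S) (t : U' ⟶ A.P), Etale (t ≫ A.π).left ∧ Surjective (t ≫ A.π).left := by
  obtain ⟨R, hR, hsec⟩ := A.loc
  obtain ⟨I, Y, g, rfl⟩ := R.exists_eq_ofArrows
  obtain ⟨hsur, het⟩ : (∀ y : A.base.left, ∃ i x, g i x = y) ∧ ∀ i, Etale (g i) :=
    (Scheme.presieve₀_mem_precoverage_iff (PreZeroHypercover.mk I Y g)).1 hR
  choose i x hx using hsur
  choose v hv using fun y => hsec (g (i y)) ⟨i y⟩
  let W : ↥A.base.left → Scheme.{u} := fun y => Y (i y)
  let U' : Over S := Over.mk (Sigma.desc fun y => g (i y) ≫ A.base.hom : (∐ W) ⟶ S)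
  have hw : ∀ y, v y ≫ A.P.hom = g (i y) ≫ A.base.hom := fun y => by
    rw [← Over.w A.π, ← Category.assoc]
    exact congrArg (· ≫ A.base.hom) (hv y)
  let t : U' ⟶ A.P := Over.homMk (Sigma.desc v) (Sigma.hom_ext _ _ fun y => by simp [U', hw])
  have e : (t ≫ A.π).left = Sigma.desc fun y => g (i y) :=
    Sigma.hom_ext _ _ fun y => by
      simp only [Over.comp_left, t, Over.homMk_left, Sigma.ι_desc]
      rw [Sigma.ι_desc_assoc]
      exact hv y
  refine ⟨U', t, e ▸ IsZariskiLocalAtSource.sigmaDesc fun y => het (i y), e ▸ ⟨fun y => ?_⟩⟩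
  refine ⟨Sigma.ι W y (x y), ?_⟩
  show (Sigma.ι W y ≫ Sigma.desc fun y => g (i y)) (x y) = y
  rw [Sigma.ι_desc]
  exact hx y

theorem repByAlgSp1_diag :
    AlgSt.RepByAlgSp1 (FibCat.diag (FibCat.toSelf (AlgSt.QuotSt Scheme.etalePrecoverage G aX))) := by
  haveI := hasIsos_etale.{u}
  haveI := stable_etale.{u}
  refine repByAlgSp1_diag_of_etale (isPrestack_fppf G aX _) fun U x => ?_
  obtain ⟨c, E, hE, hfst, eA, hc⟩ := exists_fibre x
  obtain ⟨U', t, ht₁, ht₂⟩ := exists_etale_point aX (x.obj (Over.mk (𝟙 U)))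
  haveI : IsIso (eqToHom eA).left := inferInstanceAs (IsIso ((Over.forget S).map (eqToHom eA)))
  have htc : (t ≫ c).left = (t ≫ (x.obj (Over.mk (𝟙 U))).π).left ≫ (eqToHom eA).left := by
    rw [hc, ← Over.comp_left, Category.assoc]
  refine ⟨U', t ≫ c, htc ▸ inferInstance, htc ▸ inferInstance, ?_⟩
  obtain ⟨i⟩ := overMap_comp t c
  let a := BasedFunctor.comp (AlgSt.overMap t) E
  have j : BasedFunctor.comp (BasedFunctor.comp a (FibCat.fpSnd x (atlas G _ aX))) (atlas G _ aX) ≅
      BasedFunctor.comp (AlgSt.overMap (t ≫ c)) x :=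
    ((Stk.restr a _).mapIso (FibCat.fpIso x (atlas G _ aX)).symm :
      BasedFunctor.comp (BasedFunctor.comp a (FibCat.fpSnd x (atlas G _ aX))) (atlas G _ aX) ≅
        BasedFunctor.comp (BasedFunctor.comp a (FibCat.fpFst x (atlas G _ aX))) x) ≪≫
      eqToIso (show BasedFunctor.comp (BasedFunctor.comp (AlgSt.overMap t) (BasedFunctor.comp E (FibCat.fpFst _ _))) x =
        BasedFunctor.comp (BasedFunctor.comp (AlgSt.overMap t) (AlgSt.overMap c)) x by rw [hfst]) ≪≫
      (postB _ x).mapIso i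
  exact repByAlgSp1_of_iso j (repByAlgSp1_comp (isFibGrpd_overCat U') (isFibGrpd_overCat X)
    (repByAlgSp1_of_repByAlgSp _ (repByAlgSp_overCat U') (repByAlgSp_overCat X))
    (repByAlgSp1_of_with (rep_surjective etale_le_fpqc)))

theorem isAlgStack [IsAffineHom G.hom] [Smooth G.hom] :
    AlgSt.IsAlgStack Scheme.etalePrecoverage (AlgSt.QuotSt Scheme.etalePrecoverage G aX) := by
  haveI := hasIsos_etale.{u}
  haveI := stable_etale.{u}
  exact ⟨isStack_etale aX, repByAlgSp1_diag aX, X, atlas G _ aX, rep_smooth etale_le_fpqc, rep_surjective etale_le_fpqc⟩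

end Groth.Agent.Stk19b.Quot
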