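import Groth.Agent.Stk19b.Quot.Basic
import Groth.Agent.Stk19.Equiv

/-! Transport of points along a descent datum of objects of `[X/G]` on a sieve. -/

set_option autoImplicit false
set_option backward.isDefEq.respectTransparency false
set_option backward.isDefEq.respectTransparency.types false

universe u

open CategoryTheory CategoryTheory.Limits AlgebraicGeometry MonoidalCategory CartesianMonoidalCategory MonObj GrpObj
open Groth.Agent.Stk19b.QuotTriv Groth.Agent.Stk19

namespace Groth.Agent.Stk19b.Quot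

variable {S : Scheme.{u}} {G X : Over S} [GrpObj G] {K : Precoverage Scheme.{u}} {aX : AlgGrp.Action G X}
  {U : Over S} {R : Sieve U} (D : Stk.sieveCat R ⥤ᵇ AlgSt.QuotSt K G aX)

/-- The total space of a member of the datum. -/
noncomputable abbrev tot (a : (Stk.sieveCat R).obj) : Over S := (D.obj a).P

theorem base_eq (a : (Stk.sieveCat R).obj) : (D.obj a).base = a.obj.left := D.w_obj a

/-- The structure map of a member, to the object of the sieve. -/
noncomputable def proj (a : (Stk.sieveCat R).obj) : tot D a ⟶ a.obj.left := (D.obj a).π ≫ eqToHom (base_eq D a)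

/-- The map of total spaces of an arrow of the sieve. -/
noncomputable abbrev topMap {a b : (Stk.sieveCat R).obj} (φ : a ⟶ b) : tot D a ⟶ tot D b := (D.map φ).top

theorem topMap_comp {a b c : (Stk.sieveCat R).obj} (φ : a ⟶ b) (ψ : b ⟶ c) : topMap D (φ ≫ ψ) = topMap D φ ≫ topMap D ψ := by
  rw [topMap, D.map_comp]
  rfl

theorem topMap_id (a : (Stk.sieveCat R).obj) : topMap D (𝟙 a) = 𝟙 (tot D a) := by
  rw [topMap, D.map_id]
  rfl

theorem isPullback_topMap {a b : (Stk.sieveCat R).obj} (φ : a ⟶ b) : IsPullback (topMap D φ) (proj D a) (proj D b) φ.hom.left := by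
  refine (D.map φ).cart.paste_vert (IsPullback.of_vert_isIso ⟨?_⟩)
  have h := based_map D φ
  show (D.map φ).base ≫ eqToHom (base_eq D b) = eqToHom (base_eq D a) ≫ φ.hom.left
  have h' : (D.map φ).base = eqToHom (base_eq D a) ≫ φ.hom.left ≫ eqToHom (base_eq D b).symm := h
  rw [h']
  simp

/-- The object of the sieve given by a point of a member. -/
abbrev sObj (a : (Stk.sieveCat R).obj) {Z : Over S} (r : Z ⟶ a.obj.left) : (Stk.sieveCat R).obj :=
  ⟨Over.mk (r ≫ a.obj.hom), R.downward_closed a.property r⟩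

/-- The arrow of the sieve of a morphism of bases over `U`. -/
abbrev sHom (a b : (Stk.sieveCat R).obj) (r : a.obj.left ⟶ b.obj.left) (h : r ≫ b.obj.hom = a.obj.hom) : a ⟶ b :=
  ObjectProperty.homMk (Over.homMk r h)

theorem sHom_ext {a b : (Stk.sieveCat R).obj} {φ ψ : a ⟶ b} (h : φ.hom.left = ψ.hom.left) : φ = ψ :=
  ObjectProperty.hom_ext _ (Over.OverMorphism.ext h)

/-- Transport of a point of the member `a` to the member `b`, along a point `r` of the base of `b`. -/
noncomputable def tr {a b : (Stk.sieveCat R).obj} {Z : Over S} (p : Z ⟶ tot D a) (r : Z ⟶ b.obj.left)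
    (h : p ≫ proj D a ≫ a.obj.hom = r ≫ b.obj.hom) : Z ⟶ tot D b :=
  (isPullback_topMap D (sHom (sObj b r) a (p ≫ proj D a) (by simpa using h))).lift p (𝟙 Z)
    (Category.id_comp _).symm ≫ topMap D (sHom (sObj b r) b r rfl)

theorem tr_eq {a b : (Stk.sieveCat R).obj} {Z : Over S} (p : Z ⟶ tot D a) (r : Z ⟶ b.obj.left)
    (h : p ≫ proj D a ≫ a.obj.hom = r ≫ b.obj.hom) {c : (Stk.sieveCat R).obj} (s : Z ⟶ tot D c) (φ : c ⟶ a) (ψ : c ⟶ b)
    (h1 : s ≫ topMap D φ = p) (h2 : s ≫ proj D c ≫ ψ.hom.left = r) : tr D p r h = s ≫ topMap D ψ := by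
  let φ₀ := sHom (sObj b r) a (p ≫ proj D a) (by simpa using h)
  let s₀ := (isPullback_topMap D φ₀).lift p (𝟙 Z) (Category.id_comp _).symm
  have hw : (s ≫ proj D c) ≫ c.obj.hom = r ≫ b.obj.hom := by
    rw [← h2]
    simp only [Category.assoc]
    rw [Over.w ψ.hom]
  let χ : sObj b r ⟶ c := sHom _ _ (s ≫ proj D c) hw
  have e1 : χ ≫ φ = φ₀ := sHom_ext (by
    show (s ≫ proj D c) ≫ φ.hom.left = p ≫ proj D a
    rw [← h1, Category.assoc, Category.assoc, (isPullback_topMap D φ).w])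
  have e2 : χ ≫ ψ = sHom (sObj b r) b r rfl := sHom_ext (by
    show (s ≫ proj D c) ≫ ψ.hom.left = r
    rw [Category.assoc, h2])
  have e3 : s₀ ≫ topMap D χ = s := by
    apply (isPullback_topMap D φ).hom_ext
    · rw [Category.assoc, ← topMap_comp, e1, h1]
      exact (isPullback_topMap D φ₀).lift_fst _ _ _
    · rw [Category.assoc, (isPullback_topMap D χ).w]
      exact ((isPullback_topMap D φ₀).lift_snd_assoc _ _ _ _).trans (Category.id_comp _)
  show s₀ ≫ topMap D (sHom (sObj b r) b r rfl) = _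
  rw [← e2, topMap_comp, reassoc_of% e3]

theorem tr_proj {a b : (Stk.sieveCat R).obj} {Z : Over S} (p : Z ⟶ tot D a) (r : Z ⟶ b.obj.left)
    (h : p ≫ proj D a ≫ a.obj.hom = r ≫ b.obj.hom) : tr D p r h ≫ proj D b = r := by
  rw [tr, Category.assoc, (isPullback_topMap D _).w]
  exact ((isPullback_topMap D _).lift_snd_assoc _ _ _ _).trans (Category.id_comp _)

theorem tr_self {a : (Stk.sieveCat R).obj} {Z : Over S} (p : Z ⟶ tot D a) (r : Z ⟶ a.obj.left) (hr : p ≫ proj D a = r)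
    (h : p ≫ proj D a ≫ a.obj.hom = r ≫ a.obj.hom) : tr D p r h = p := by
  refine (tr_eq D p r h p (𝟙 a) (𝟙 a) (by rw [topMap_id, Category.comp_id]) ?_).trans
    (by rw [topMap_id, Category.comp_id])
  rw [← hr]
  show p ≫ proj D a ≫ 𝟙 _ = _
  rw [Category.comp_id]

theorem tr_map {a b : (Stk.sieveCat R).obj} (φ : a ⟶ b) {Z : Over S} (p : Z ⟶ tot D a) (r : Z ⟶ b.obj.left)
    (hr : p ≫ proj D a ≫ φ.hom.left = r) (h : p ≫ proj D a ≫ a.obj.hom = r ≫ b.obj.hom) :
    tr D p r h = p ≫ topMap D φ :=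
  tr_eq D p r h p (𝟙 a) φ (by rw [topMap_id, Category.comp_id]) hr

theorem tr_tr {a b c : (Stk.sieveCat R).obj} {Z : Over S} (p : Z ⟶ tot D a) (r : Z ⟶ b.obj.left) (r' : Z ⟶ c.obj.left)
    (h : p ≫ proj D a ≫ a.obj.hom = r ≫ b.obj.hom)
    (h' : tr D p r h ≫ proj D b ≫ b.obj.hom = r' ≫ c.obj.hom)
    (h'' : p ≫ proj D a ≫ a.obj.hom = r' ≫ c.obj.hom) : tr D (tr D p r h) r' h' = tr D p r' h'' := by
  let φ₀ := sHom (sObj b r) a (p ≫ proj D a) (by simpa using h)
  let s₀ := (isPullback_topMap D φ₀).lift p (𝟙 Z) (Category.id_comp _).symm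
  let ω : sObj b r ⟶ c := sHom _ _ r' (h''.symm.trans h)
  have hs : s₀ ≫ proj D (sObj b r) = 𝟙 Z := (isPullback_topMap D φ₀).lift_snd _ _ _
  rw [tr_eq D (tr D p r h) r' h' s₀ _ ω rfl ((Category.assoc _ _ _).symm.trans ((congrArg (· ≫ _) hs).trans (Category.id_comp _))),
    tr_eq D p r' h'' s₀ φ₀ ω ((isPullback_topMap D φ₀).lift_fst _ _ _) ((Category.assoc _ _ _).symm.trans ((congrArg (· ≫ _) hs).trans (Category.id_comp _)))]

theorem comp_tr {a b : (Stk.sieveCat R).obj} {Z' Z : Over S} (k : Z' ⟶ Z) (p : Z ⟶ tot D a) (r : Z ⟶ b.obj.left)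
    (h : p ≫ proj D a ≫ a.obj.hom = r ≫ b.obj.hom)
    (h' : (k ≫ p) ≫ proj D a ≫ a.obj.hom = (k ≫ r) ≫ b.obj.hom) :
    tr D (k ≫ p) (k ≫ r) h' = k ≫ tr D p r h := by
  let φ₀ := sHom (sObj b r) a (p ≫ proj D a) (by simpa using h)
  let s₀ := (isPullback_topMap D φ₀).lift p (𝟙 Z) (Category.id_comp _).symm
  have hs : s₀ ≫ proj D (sObj b r) = 𝟙 Z := (isPullback_topMap D φ₀).lift_snd _ _ _
  refine (tr_eq D _ _ h' (k ≫ s₀) φ₀ (sHom (sObj b r) b r rfl) ?_ ?_).trans (Category.assoc _ _ _)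
  · rw [Category.assoc]
    exact congrArg (k ≫ ·) ((isPullback_topMap D φ₀).lift_fst _ _ _)
  · exact (Category.assoc _ _ _).trans (congrArg (k ≫ ·)
      ((Category.assoc _ _ _).symm.trans ((congrArg (· ≫ _) hs).trans (Category.id_comp _))))

end Groth.Agent.Stk19b.Quot
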