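import Groth.Agent.Stk19b.Quot.Glue
import Groth.Agent.Stk19b.Quot.Transport

/-! Charts from the members of a descent datum to a glued total space. -/

set_option autoImplicit false
set_option backward.isDefEq.respectTransparency false
set_option backward.isDefEq.respectTransparency.types false

universe v' u' u

open CategoryTheory CategoryTheory.Limits AlgebraicGeometry MonoidalCategory CartesianMonoidalCategory MonObj GrpObj
open Groth.Agent.Stk19b.QuotTriv

namespace Groth.Agent.Stk19b.Quot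

/-- A square is cartesian if points factor uniquely through it locally. -/
theorem isPullback_of_local {C : Type u'} [Category.{v'} C] (J : GrothendieckTopology C) [J.Subcanonical]
    {U : C} {R : Sieve U} (hR : R ∈ J U) {P A B : C} {a : P ⟶ A} {b : P ⟶ B} {α : A ⟶ U} {β : B ⟶ U}
    (w : a ≫ α = b ≫ β)
    (h : ∀ ⦃Z : C⦄ (x : Z ⟶ A) (y : Z ⟶ B), x ≫ α = y ≫ β → R (x ≫ α) →
      ∃! p : Z ⟶ P, p ≫ a = x ∧ p ≫ b = y) : IsPullback a b α β := by
  have hc : ∀ ⦃Z : C⦄ (x : Z ⟶ A) (y : Z ⟶ B), x ≫ α = y ≫ β → ∃! p : Z ⟶ P, p ≫ a = x ∧ p ≫ b = y := by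
    intro Z x y hxy
    have hR' : ∀ {W : C} (k : W ⟶ Z), R (k ≫ x ≫ α) → ∃! p : W ⟶ P, p ≫ a = k ≫ x ∧ p ≫ b = k ≫ y := fun k hk =>
      h (k ≫ x) (k ≫ y) (by rw [Category.assoc, hxy, Category.assoc]) (by rwa [Category.assoc])
    obtain ⟨p, hp, -⟩ := existsUnique_glueHom J hR (x ≫ α) (fun W k hk => (hR' k hk).exists.choose)
      fun W' W g k hk hk' => (hR' (g ≫ k) hk').unique (hR' (g ≫ k) hk').exists.choose_spec
        ⟨by rw [Category.assoc, (hR' k hk).exists.choose_spec.1, Category.assoc],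
          by rw [Category.assoc, (hR' k hk).exists.choose_spec.2, Category.assoc]⟩
    refine ⟨p, ⟨?_, ?_⟩, ?_⟩
    · refine hom_ext_of_cover J hR (x ≫ α) fun W k hk => ?_
      rw [← Category.assoc, hp k hk, (hR' k hk).exists.choose_spec.1]
    · refine hom_ext_of_cover J hR (x ≫ α) fun W k hk => ?_
      rw [← Category.assoc, hp k hk, (hR' k hk).exists.choose_spec.2]
    · rintro p' ⟨h1, h2⟩
      refine hom_ext_of_cover J hR (x ≫ α) fun W k hk => ?_
      rw [hp k hk]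
      exact (hR' k hk).unique ⟨by rw [Category.assoc, h1], by rw [Category.assoc, h2]⟩
        (hR' k hk).exists.choose_spec
  exact ⟨⟨w⟩, ⟨PullbackCone.IsLimit.mk _ (fun s => (hc s.fst s.snd s.condition).exists.choose)
    (fun s => (hc s.fst s.snd s.condition).exists.choose_spec.1)
    (fun s => (hc s.fst s.snd s.condition).exists.choose_spec.2)
    fun s m h1 h2 => (hc s.fst s.snd s.condition).unique ⟨h1, h2⟩ (hc s.fst s.snd s.condition).exists.choose_spec⟩⟩

variable {S : Scheme.{u}} {G X : Over S} [GrpObj G] {K : Precoverage Scheme.{u}} {aX : AlgGrp.Action G X}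
  {U : Over S} {R : Sieve U} (D : Stk.sieveCat R ⥤ᵇ AlgSt.QuotSt K G aX)

theorem tr_back {a b : (Stk.sieveCat R).obj} {Z : Over S} (p : Z ⟶ tot D a) (q : Z ⟶ tot D b) (y : Z ⟶ a.obj.left)
    (r : Z ⟶ b.obj.left) (h : p ≫ proj D a ≫ a.obj.hom = r ≫ b.obj.hom)
    (h' : q ≫ proj D b ≫ b.obj.hom = y ≫ a.obj.hom) (hy : p ≫ proj D a = y) (e : tr D p r h = q) :
    p = tr D q y h' := by
  subst e
  rw [tr_tr D p r y h h' ((Category.assoc _ _ _).symm.trans (congrArg (· ≫ _) hy)), tr_self D p y hy]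

theorem exists_charts (J : GrothendieckTopology (Over S)) [J.Subcanonical] {I : Type u}
    (ob : I → (Stk.sieveCat R).obj)
    (hf : Sieve.ofArrows (fun i => (ob i).obj.left) (fun i => (ob i).obj.hom) ∈ J U) {P₀ : Over S} (π₀ : P₀ ⟶ U)
    (q : ∀ i, tot D (ob i) ⟶ P₀)
    (hq : ∀ i, IsPullback (q i) (proj D (ob i)) π₀ (ob i).obj.hom)
    (hcompat : ∀ (i j : I) {Z : Over S} (p : Z ⟶ tot D (ob i)) (r : Z ⟶ (ob j).obj.left) (h),
      tr D p r h ≫ q j = p ≫ q i) :
    ∃ ν : ∀ a : (Stk.sieveCat R).obj, tot D a ⟶ P₀,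
      (∀ a, IsPullback (ν a) (proj D a) π₀ a.obj.hom) ∧ ∀ {a b} (φ : a ⟶ b), topMap D φ ≫ ν b = ν a := by
  let cov : Sieve U := Sieve.ofArrows (fun i => (ob i).obj.left) (fun i => (ob i).obj.hom)
  -- value of a point through a member of the family
  have hval : ∀ (a : (Stk.sieveCat R).obj) {Z : Over S} (k : Z ⟶ tot D a),
      cov (k ≫ proj D a ≫ a.obj.hom) →
      ∃ y : Z ⟶ P₀, ∀ (i : I) (r : Z ⟶ (ob i).obj.left) (h : k ≫ proj D a ≫ a.obj.hom = r ≫ (ob i).obj.hom),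
        tr D k r h ≫ q i = y := by
    intro a Z k hk
    obtain ⟨_, r, _, ⟨i⟩, hr⟩ := hk
    refine ⟨tr D k (b := ob i) r hr.symm ≫ q i, fun j r' h' => ?_⟩
    have h1 : tr D k (b := ob i) r hr.symm ≫ proj D (ob i) ≫ (ob i).obj.hom = r' ≫ (ob j).obj.hom := by
      rw [← Category.assoc, tr_proj, ← h']
      exact hr
    exact (congrArg (· ≫ q j) (tr_tr D k (b := ob i) (c := ob j) r r' hr.symm h1 h').symm).trans
      (hcompat i j (tr D k (b := ob i) r hr.symm) r' h1)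
  choose val hval using hval
  have hv : ∀ a, ∃! l : tot D a ⟶ P₀, ∀ ⦃Z : Over S⦄ (k : Z ⟶ tot D a)
      (h : cov (k ≫ proj D a ≫ a.obj.hom)), k ≫ l = val a k h := fun a =>
    existsUnique_glueHom J hf (proj D a ≫ a.obj.hom) (fun Z k h => val a k h) fun Z' Z g k h h' => by
      obtain ⟨_, r, _, ⟨i⟩, hr⟩ := h
      have hg : (g ≫ k) ≫ proj D a ≫ a.obj.hom = (g ≫ r) ≫ (ob i).obj.hom := by
        rw [Category.assoc, ← hr]
        exact (Category.assoc _ _ _).symm
      rw [← hval a k _ i r hr.symm, ← hval a (g ≫ k) _ i (g ≫ r) hg]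
      exact (congrArg (· ≫ q i) (comp_tr D (b := ob i) g k r hr.symm hg)).trans (Category.assoc _ _ _)
  choose ν hν using fun a => (hv a).exists
  have hνi : ∀ (a : (Stk.sieveCat R).obj) {Z : Over S} (k : Z ⟶ tot D a) (i : I) (r : Z ⟶ (ob i).obj.left)
      (h : k ≫ proj D a ≫ a.obj.hom = r ≫ (ob i).obj.hom), k ≫ ν a = tr D k r h ≫ q i := fun a Z k i r h => by
    have hm : cov (k ≫ proj D a ≫ a.obj.hom) := ⟨_, r, _, ⟨i⟩, h.symm⟩
    rw [hν a k hm, hval a k hm i r h]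
  have hw : ∀ a, ν a ≫ π₀ = proj D a ≫ a.obj.hom := fun a => by
    refine hom_ext_of_cover J hf (proj D a ≫ a.obj.hom) fun Z k hk => ?_
    obtain ⟨_, r, _, ⟨i⟩, hr⟩ := hk
    rw [← Category.assoc, hνi a k i r hr.symm, Category.assoc, (hq i).w, ← Category.assoc, tr_proj]
    exact hr
  refine ⟨ν, fun a => isPullback_of_local J hf (hw a) fun Z x y hxy hx => ?_, fun {a b} φ => ?_⟩
  · obtain ⟨_, r, _, ⟨i⟩, hr⟩ := hx
    let pi : Z ⟶ tot D (ob i) := (hq i).lift x r hr.symm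
    have hpi : pi ≫ proj D (ob i) = r := (hq i).lift_snd _ _ _
    have h1 : pi ≫ proj D (ob i) ≫ (ob i).obj.hom = y ≫ a.obj.hom := by
      rw [← Category.assoc, hpi, ← hxy]
      exact hr
    refine ⟨tr D pi y h1, ⟨?_, tr_proj D _ _ _⟩, ?_⟩
    · have h2 : tr D pi y h1 ≫ proj D a ≫ a.obj.hom = r ≫ (ob i).obj.hom := by
        rw [← Category.assoc, tr_proj, ← hxy]
        exact hr.symm
      rw [hνi a _ i r h2, tr_tr D pi y r h1 h2 ((Category.assoc _ _ _).symm.trans (congrArg (· ≫ _) hpi)),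
        tr_self D pi r hpi]
      exact (hq i).lift_fst _ _ _
    · rintro p ⟨hp1, hp2⟩
      have h2 : p ≫ proj D a ≫ a.obj.hom = r ≫ (ob i).obj.hom := by
        rw [← Category.assoc, hp2, ← hxy]
        exact hr.symm
      have e : tr D p r h2 = pi := by
        apply (hq i).hom_ext
        · rw [← hνi a p i r h2, hp1]
          exact ((hq i).lift_fst _ _ _).symm
        · rw [tr_proj, hpi]
      exact tr_back D p pi y r h2 h1 hp2 e
  · refine hom_ext_of_cover J hf (proj D a ≫ a.obj.hom) fun Z k hk => ?_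
    obtain ⟨_, r, _, ⟨i⟩, hr⟩ := hk
    have hab : k ≫ proj D a ≫ a.obj.hom = (k ≫ proj D a ≫ φ.hom.left) ≫ b.obj.hom := by
      simp only [Category.assoc]
      rw [Over.w φ.hom]
    have hb : (k ≫ topMap D φ) ≫ proj D b ≫ b.obj.hom = r ≫ (ob i).obj.hom := by
      rw [Category.assoc, reassoc_of% (isPullback_topMap D φ).w, Over.w φ.hom]
      exact hr.symm
    rw [hνi a k i r hr.symm, ← Category.assoc, hνi b _ i r hb]
    simp only [← tr_map D φ k (k ≫ proj D a ≫ φ.hom.left) rfl hab]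
    exact congrArg (· ≫ q i) (tr_tr D (c := ob i) k (k ≫ proj D a ≫ φ.hom.left) r hab
      ((congrArg (· ≫ proj D b ≫ b.obj.hom) (tr_map D φ k _ rfl hab)).trans hb) hr.symm)

end Groth.Agent.Stk19b.Quot
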