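import Groth.Agent.Stk19b.Quot.Chart

/-! The torsor structure on a glued total space. -/

set_option autoImplicit false
set_option backward.isDefEq.respectTransparency false
set_option backward.isDefEq.respectTransparency.types false

universe u

open CategoryTheory CategoryTheory.Limits AlgebraicGeometry MonoidalCategory CartesianMonoidalCategory MonObj GrpObj
open Groth.Agent.Stk19b.QuotTriv

namespace Groth.Agent.Stk19b.Quot

variable {S : Scheme.{u}} {G X : Over S} [GrpObj G] {K : Precoverage Scheme.{u}} {aX : AlgGrp.Action G X}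
  {U : Over S} {R : Sieve U} (D : Stk.sieveCat R ⥤ᵇ AlgSt.QuotSt K G aX)
  {P₀ : Over S} {π₀ : P₀ ⟶ U} (ν : ∀ a : (Stk.sieveCat R).obj, tot D a ⟶ P₀)

theorem smul_ν (hν : ∀ {a b} (φ : a ⟶ b), topMap D φ ≫ ν b = ν a) {a b : (Stk.sieveCat R).obj} (φ : a ⟶ b)
    {Z : Over S} (g : Z ⟶ G) (s : Z ⟶ tot D a) :
    smulPt (D.obj b).act g (s ≫ topMap D φ) ≫ ν b = smulPt (D.obj a).act g s ≫ ν a := by
  rw [← hν φ, ← hom_top_smul (D.map φ), Category.assoc]

theorem exists_chart_pt (hp : ∀ a, IsPullback (ν a) (proj D a) π₀ a.obj.hom) {Z : Over S} (p : Z ⟶ P₀)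
    (h : R (p ≫ π₀)) :
    ∃ s : Z ⟶ tot D ⟨Over.mk (p ≫ π₀), h⟩, s ≫ ν _ = p ∧ s ≫ proj D _ = 𝟙 Z :=
  ⟨(hp ⟨Over.mk (p ≫ π₀), h⟩).lift p (𝟙 Z) (Category.id_comp _).symm,
    (hp _).lift_fst _ _ _, (hp _).lift_snd _ _ _⟩

theorem exists_glued_act (J : GrothendieckTopology (Over S)) [J.Subcanonical] (hR : R ∈ J U)
    (hp : ∀ a, IsPullback (ν a) (proj D a) π₀ a.obj.hom)
    (hν : ∀ {a b} (φ : a ⟶ b), topMap D φ ≫ ν b = ν a) :
    ∃ act₀ : AlgGrp.Action G P₀, act₀.act ≫ π₀ = snd G P₀ ≫ π₀ ∧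
      ∀ (a : (Stk.sieveCat R).obj) {Z : Over S} (g : Z ⟶ G) (s : Z ⟶ tot D a),
        smulPt act₀ g (s ≫ ν a) = smulPt (D.obj a).act g s ≫ ν a := by
  -- independence of the chart
  have indep : ∀ (a : (Stk.sieveCat R).obj) {Z : Over S} (g : Z ⟶ G) (s : Z ⟶ tot D a) (p : Z ⟶ P₀)
      (_ : s ≫ ν a = p) (h : R (p ≫ π₀)) (s' : Z ⟶ tot D ⟨Over.mk (p ≫ π₀), h⟩),
      s' ≫ ν _ = p → s' ≫ proj D _ = 𝟙 Z →
      smulPt (D.obj a).act g s ≫ ν a = smulPt (D.obj ⟨Over.mk (p ≫ π₀), h⟩).act g s' ≫ ν _ := by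
    intro a Z g s p hs h s' hs1 hs2
    let c : (Stk.sieveCat R).obj := ⟨Over.mk (p ≫ π₀), h⟩
    let χ : c ⟶ a := sHom c a (s ≫ proj D a) (by
      rw [Category.assoc, ← (hp a).w, reassoc_of% hs]
      rfl)
    have e : s' ≫ topMap D χ = s := by
      apply (hp a).hom_ext
      · rw [Category.assoc, hν χ, hs1, hs]
      · rw [Category.assoc, (isPullback_topMap D χ).w, reassoc_of% hs2]
        rfl
    rw [← e]
    exact smul_ν D ν hν χ g s'
  choose sec hsec1 hsec2 using fun (Z : Over S) (p : Z ⟶ P₀) (h : R (p ≫ π₀)) => exists_chart_pt D ν hp p h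
  have hm : ∀ {Z : Over S} {k : Z ⟶ G ⊗ P₀}, R (k ≫ snd G P₀ ≫ π₀) → R ((k ≫ snd G P₀) ≫ π₀) := fun hk => by
    rwa [Category.assoc]
  obtain ⟨l, hl, -⟩ := existsUnique_glueHom J hR (snd G P₀ ≫ π₀)
    (fun Z k hk => smulPt (D.obj ⟨Over.mk ((k ≫ snd G P₀) ≫ π₀), hm hk⟩).act (k ≫ fst G P₀)
      (sec Z (k ≫ snd G P₀) (hm hk)) ≫ ν _) fun Z' Z g k hk hk' => by
      have e := indep ⟨Over.mk ((k ≫ snd G P₀) ≫ π₀), hm hk⟩ ((g ≫ k) ≫ fst G P₀)
        (g ≫ sec Z (k ≫ snd G P₀) (hm hk)) ((g ≫ k) ≫ snd G P₀)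
        (by rw [Category.assoc, hsec1, Category.assoc]) (hm hk') _ (hsec1 _ _ _) (hsec2 _ _ _)
      refine e.symm.trans ?_
      rw [Category.assoc g k, ← comp_smulPt, Category.assoc]
  have key : ∀ (a : (Stk.sieveCat R).obj) {Z : Over S} (g : Z ⟶ G) (s : Z ⟶ tot D a),
      lift g (s ≫ ν a) ≫ l = smulPt (D.obj a).act g s ≫ ν a := fun a Z g s => by
    have hk : R (lift g (s ≫ ν a) ≫ snd G P₀ ≫ π₀) := by
      rw [lift_snd_assoc, Category.assoc, (hp a).w, ← Category.assoc]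
      exact R.downward_closed a.property _
    rw [hl _ hk, indep a g s _ (lift_snd g (s ≫ ν a)).symm (hm hk) _ (hsec1 _ _ _) (hsec2 _ _ _)]
    simp
  have hπ : l ≫ π₀ = snd G P₀ ≫ π₀ := by
    refine hom_ext_of_cover J hR (snd G P₀ ≫ π₀) fun Z k hk => ?_
    let s := sec Z (k ≫ snd G P₀) (hm hk)
    have hk2 : k = lift (k ≫ fst G P₀) (s ≫ ν _) := by
      apply CartesianMonoidalCategory.hom_ext
      · simp
      · rw [lift_snd, hsec1]
    rw [hk2, ← Category.assoc, key, Category.assoc, (hp _).w, ← Category.assoc, lift_snd_assoc, hsec1]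
    show (smulPt _ _ s ≫ (D.obj _).π ≫ eqToHom _) ≫ _ = _
    rw [← Category.assoc (smulPt _ _ s), smulPt_π, Category.assoc]
    show (s ≫ proj D _) ≫ (k ≫ snd G P₀) ≫ π₀ = _
    rw [hsec2, Category.id_comp]
  have ext : ∀ {M Y : Over S} (m : M ⟶ P₀) {f f' : M ⟶ Y},
      (∀ {Z : Over S} (k : Z ⟶ M) (a : (Stk.sieveCat R).obj) (s : Z ⟶ tot D a), k ≫ m = s ≫ ν a →
        k ≫ f = k ≫ f') → f = f' := by
    intro M Y m f f' h
    refine hom_ext_of_cover J hR (m ≫ π₀) fun Z k hk => ?_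
    exact h k _ (sec Z (k ≫ m) (by rwa [Category.assoc])) (hsec1 _ _ _).symm
  refine ⟨{ act := l, one_act := ?_, mul_act := ?_ }, hπ, key⟩
  · refine ext (snd (𝟙_ (Over S)) P₀) fun {Z} k a s hs => ?_
    have e : k ≫ (η[G] ▷ P₀) = lift (1 : Z ⟶ G) (s ≫ ν a) := by
      apply CartesianMonoidalCategory.hom_ext
      · rw [Category.assoc, whiskerRight_fst, lift_fst, Hom.one_def, ← Category.assoc,
          toUnit_unique (k ≫ fst _ _) (toUnit Z)]
      · rw [Category.assoc, whiskerRight_snd, lift_snd, hs]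
    rw [reassoc_of% e, key, smulPt_one, leftUnitor_hom, hs]
  · refine ext (snd (G ⊗ G) P₀) fun {Z} k a s hs => ?_
    have e1 : k ≫ (μ[G] ▷ P₀) = lift ((k ≫ fst _ _ ≫ fst G G) * (k ≫ fst _ _ ≫ snd G G)) (s ≫ ν a) := by
      apply CartesianMonoidalCategory.hom_ext
      · rw [Category.assoc, whiskerRight_fst, lift_fst, Hom.mul_def, ← comp_lift_assoc, ← comp_lift_assoc,
          lift_fst_snd, Category.id_comp]
      · rw [Category.assoc, whiskerRight_snd, lift_snd, hs]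
    have e2 : k ≫ (α_ G G P₀).hom = lift (k ≫ fst _ _ ≫ fst G G) (lift (k ≫ fst _ _ ≫ snd G G) (s ≫ ν a)) := by
      apply CartesianMonoidalCategory.hom_ext
      · simp
      · apply CartesianMonoidalCategory.hom_ext
        · simp
        · simp [hs]
    rw [reassoc_of% e1, key, smulPt_mul, reassoc_of% e2, lift_whiskerLeft_assoc, key, key]

theorem exists_glued_obj (J : GrothendieckTopology (Over S)) [J.Subcanonical] (hR : R ∈ J U)
    (hp : ∀ a, IsPullback (ν a) (proj D a) π₀ a.obj.hom)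
    (hν : ∀ {a b} (φ : a ⟶ b), topMap D φ ≫ ν b = ν a)
    (hloc : NonAbH1.IsLocallyTrivialFor K (Over.mk π₀.left : Over U.left)) :
    ∃ (x : AlgSt.QuotObj K G aX) (hx : x.base = U) (mu : ∀ a, D.obj a ⟶ x),
      (∀ a, (mu a).base = eqToHom (D.w_obj a) ≫ a.obj.hom ≫ eqToHom hx.symm) ∧
      ∀ a b (φ : a ⟶ b), D.map φ ≫ mu b = mu a := by
  obtain ⟨act₀, hπ, key⟩ := exists_glued_act D ν J hR hp hν
  choose sec hsec1 hsec2 using fun (Z : Over S) (p : Z ⟶ P₀) (h : R (p ≫ π₀)) => exists_chart_pt D ν hp p h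
  obtain ⟨φ₀, hφ₀, -⟩ := existsUnique_glueHom J hR π₀
    (fun Z k hk => sec Z k hk ≫ (D.obj ⟨Over.mk (k ≫ π₀), hk⟩).φ) fun Z' Z g k hk hk' => by
      let c : (Stk.sieveCat R).obj := ⟨Over.mk ((g ≫ k) ≫ π₀), hk'⟩
      let χ : c ⟶ ⟨Over.mk (k ≫ π₀), hk⟩ := sHom c _ g (Category.assoc _ _ _).symm
      have e : sec Z' (g ≫ k) hk' ≫ topMap D χ = g ≫ sec Z k hk := by
        apply (hp _).hom_ext
        · rw [Category.assoc, hν χ, hsec1, Category.assoc, hsec1]
        · rw [Category.assoc, (isPullback_topMap D χ).w, reassoc_of% (hsec2 Z' (g ≫ k) hk'), Category.assoc,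
            hsec2]
          exact (Category.comp_id g).symm
      rw [← reassoc_of% e, (D.map χ).wφ]
  have hφ : ∀ a, ν a ≫ φ₀ = (D.obj a).φ := fun a => by
    refine hom_ext_of_cover J hR (proj D a ≫ a.obj.hom) fun Z k hk => ?_
    have hk' : R ((k ≫ ν a) ≫ π₀) := by rwa [Category.assoc, (hp a).w]
    let c : (Stk.sieveCat R).obj := ⟨Over.mk ((k ≫ ν a) ≫ π₀), hk'⟩
    let χ : c ⟶ a := sHom c a (k ≫ proj D a) (by
      rw [Category.assoc, ← (hp a).w, ← Category.assoc]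
      rfl)
    have e : sec Z (k ≫ ν a) hk' ≫ topMap D χ = k := by
      apply (hp a).hom_ext
      · rw [Category.assoc, hν χ, hsec1]
      · rw [Category.assoc, (isPullback_topMap D χ).w, reassoc_of% (hsec2 Z (k ≫ ν a) hk')]
        rfl
    rw [← Category.assoc, hφ₀ (k ≫ ν a) hk']
    conv_rhs => rw [← e, Category.assoc, (D.map χ).wφ]
  have ext : ∀ {M Y : Over S} (m : M ⟶ P₀) {f f' : M ⟶ Y},
      (∀ {Z : Over S} (k : Z ⟶ M) (a : (Stk.sieveCat R).obj) (s : Z ⟶ tot D a), k ≫ m = s ≫ ν a →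
        k ≫ f = k ≫ f') → f = f' := by
    intro M Y m f f' h
    refine hom_ext_of_cover J hR (m ≫ π₀) fun Z k hk => ?_
    exact h k _ (sec Z (k ≫ m) (by rwa [Category.assoc])) (hsec1 _ _ _).symm
  have hcart : IsPullback act₀.act (snd G P₀) π₀ π₀ := by
    refine isPullback_of_local J hR hπ fun Z x y hxy hx => ?_
    have hy : R (y ≫ π₀) := hxy ▸ hx
    let c : (Stk.sieveCat R).obj := ⟨Over.mk (x ≫ π₀), hx⟩
    let sx : Z ⟶ tot D c := sec Z x hx
    let sy : Z ⟶ tot D c := (hp c).lift y (𝟙 Z) ((Category.id_comp _).trans hxy).symm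
    have hb : sx ≫ (D.obj c).π = sy ≫ (D.obj c).π := by
      have : sx ≫ proj D c = sy ≫ proj D c := (hsec2 Z x hx).trans ((hp c).lift_snd _ _ _).symm
      simpa only [proj, ← Category.assoc, cancel_mono] using this
    obtain ⟨g, hg, hu⟩ := existsUnique_smul (D.obj c) sy sx hb
    have hsy : sy ≫ ν c = y := (hp c).lift_fst _ _ _
    have hval : ∀ g' : Z ⟶ G, smulPt act₀ g' y = smulPt (D.obj c).act g' sy ≫ ν c := fun g' => by
      rw [← hsy]
      exact key c g' sy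
    refine ⟨lift g y, ⟨?_, lift_snd _ _⟩, ?_⟩
    · show smulPt act₀ g y = x
      rw [hval, hg]
      exact hsec1 _ _ _
    · rintro p ⟨h1, h2⟩
      have ep : p = lift (p ≫ fst G P₀) y := by
        apply CartesianMonoidalCategory.hom_ext
        · simp
        · rw [lift_snd, h2]
      refine ep.trans (congrArg (fun t => lift t y) (hu _ ?_))
      apply (hp c).hom_ext
      · rw [← hval]
        show lift _ y ≫ act₀.act = _
        rw [← ep, h1]
        exact (hsec1 _ _ _).symm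
      · simp only [proj, ← Category.assoc]
        rw [smulPt_π, hb]
  have heqv : act₀.act ≫ φ₀ = (G ◁ φ₀) ≫ aX.act := by
    refine ext (snd G P₀) fun {Z} k a s hs => ?_
    have hk : k = lift (k ≫ fst G P₀) (s ≫ ν a) := by
      apply CartesianMonoidalCategory.hom_ext
      · simp
      · rw [lift_snd, hs]
    have e : smulPt act₀ (k ≫ fst G P₀) (s ≫ ν a) ≫ φ₀ = smulPt aX (k ≫ fst G P₀) ((s ≫ ν a) ≫ φ₀) := by
      exact (congrArg (· ≫ φ₀) (key a (k ≫ fst G P₀) s)).trans ((Category.assoc _ _ _).trans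
        ((congrArg (smulPt (D.obj a).act (k ≫ fst G P₀) s ≫ ·) (hφ a)).trans ((comp_φ (D.obj a) _ s).trans
          (congrArg (smulPt aX (k ≫ fst G P₀)) ((congrArg (s ≫ ·) (hφ a).symm).trans (Category.assoc _ _ _).symm)))))
    calc k ≫ act₀.act ≫ φ₀ = lift (k ≫ fst G P₀) (s ≫ ν a) ≫ act₀.act ≫ φ₀ := congrArg (· ≫ _) hk
      _ = smulPt act₀ (k ≫ fst G P₀) (s ≫ ν a) ≫ φ₀ := (Category.assoc _ _ _).symm
      _ = smulPt aX (k ≫ fst G P₀) ((s ≫ ν a) ≫ φ₀) := e
      _ = lift (k ≫ fst G P₀) (s ≫ ν a) ≫ (G ◁ φ₀) ≫ aX.act := (lift_whiskerLeft_assoc _ _ _ _).symm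
      _ = k ≫ (G ◁ φ₀) ≫ aX.act := congrArg (· ≫ _) hk.symm
  let x : AlgSt.QuotObj K G aX :=
    { base := U, P := P₀, act := act₀, π := π₀, cart := hcart, loc := hloc, φ := φ₀, eqv := heqv }
  let mu : ∀ a, D.obj a ⟶ x := fun a =>
    { base := eqToHom (base_eq D a) ≫ a.obj.hom
      top := ν a
      eqv := by
        have := key a (fst G (tot D a)) (snd G (tot D a))
        rw [whiskerLeft_eq]
        refine Eq.trans ?_ this.symm
        show _ = smulPt (D.obj a).act (fst G (tot D a)) (snd G (tot D a)) ≫ ν a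
        simp
      cart := by
        refine IsPullback.of_iso (hp a) (Iso.refl _) (Iso.refl _) (eqToIso (base_eq D a).symm) (Iso.refl _)
          (by simp) ?_ (by simp [x]) (by simp)
        simp [proj]
      wφ := hφ a }
  refine ⟨x, rfl, mu, fun a => ?_, fun a b φ => AlgSt.QuotObj.hom_ext ?_ (hν φ)⟩
  · simp [mu, x]
  · have h := Groth.Agent.Stk19.based_map D φ
    have h' : (D.map φ).base = eqToHom (base_eq D a) ≫ φ.hom.left ≫ eqToHom (base_eq D b).symm := h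
    show (D.map φ).base ≫ eqToHom (base_eq D b) ≫ b.obj.hom = eqToHom (base_eq D a) ≫ a.obj.hom
    rw [h']
    simp [Over.w φ.hom]

end Groth.Agent.Stk19b.Quot
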