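import Groth.Agent.Stk19b.Quot.TwoCart
import Groth.Agent.Stk19b.Quot.Torsor
import Groth.Agent.Stk19.AlgSt.LocQ
import Groth.Agent.Stk19.Glue

/-! The fibres of `X ⟶ [X/G]` are the torsors. -/

set_option autoImplicit false
set_option backward.isDefEq.respectTransparency false
set_option backward.isDefEq.respectTransparency.types false

universe u

open CategoryTheory CategoryTheory.Limits AlgebraicGeometry MonoidalCategory CartesianMonoidalCategory MonObj GrpObj
open Groth.Agent.Stk19b.QuotTriv Groth.Agent.Stk19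

namespace Groth.Agent.Stk19b.Quot

variable {S : Scheme.{u}} {G X : Over S} [GrpObj G] {K : Precoverage Scheme.{u}} {aX : AlgGrp.Action G X}
  [K.HasIsos]

variable (G K aX) in
/-- `X ⟶ [X/G]` on the slice. -/
noncomputable abbrev atlas : FibCat.overCat X ⥤ᵇ AlgSt.QuotSt K G aX :=
  BasedFunctor.comp (AlgSt.ofOverCat X) (AlgSt.quotMap K G aX)

omit [K.HasIsos] in
theorem unitSec_whisker {T T' : Over S} (f : T ⟶ T') : unitSec (G := G) T ≫ (G ◁ f) = f ≫ unitSec T' := by
  apply CartesianMonoidalCategory.hom_ext <;> simp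

theorem top_congr {A B : AlgSt.QuotObj K G aX} {f g : A ⟶ B} (h : f = g) : f.top = g.top := h ▸ rfl

theorem exists_fibre [K.IsStableUnderBaseChange] {U : Over S} (y : FibCat.overCat U ⥤ᵇ AlgSt.QuotSt K G aX) :
    ∃ (c : (y.obj (Over.mk (𝟙 U))).P ⟶ U)
      (E : FibCat.overCat (y.obj (Over.mk (𝟙 U))).P ⥤ᵇ FibCat.fp y (atlas G K aX)),
      FibCat.IsEquivOver E ∧ BasedFunctor.comp E (FibCat.fpFst y (atlas G K aX)) = AlgSt.overMap c ∧
        ∃ eA : (y.obj (Over.mk (𝟙 U))).base = U, c = (y.obj (Over.mk (𝟙 U))).π ≫ eqToHom eA := by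
  set A := y.obj (Over.mk (𝟙 U)) with hA
  let eA : A.base = U := y.w_obj (Over.mk (𝟙 U))
  let c : A.P ⟶ U := A.π ≫ eqToHom eA
  let gob : (FibCat.overCat A.P).obj → (FibCat.overCat U).obj := fun w => Over.mk (w.hom ≫ c)
  let xob : (FibCat.overCat A.P).obj → (FibCat.overCat X).obj := fun w => Over.mk (w.hom ≫ A.φ)
  have hG : FibCat.IsFibGrpd (AlgSt.QuotSt K G aX).p := isFibGrpd G K aX
  have hτ : ∀ w, (toTop y (gob w)).base = eqToHom (y.w_obj (gob w)) ≫ (w.hom ≫ c) ≫ eqToHom eA.symm :=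
    fun w => toTop_map y (gob w)
  choose h hb ht using fun w : (FibCat.overCat A.P).obj =>
    exists_hom_of_point A w.hom (w.hom ≫ A.π) rfl (w.hom ≫ A.φ) rfl
  choose χ hχ using fun w : (FibCat.overCat A.P).obj =>
    (existsUnique_fac (toTop y (gob w)) (h w) (eqToHom (y.w_obj (gob w)).symm) (by
      rw [hτ, hb]
      simp [c])).exists
  haveI : ∀ w, IsIso (χ w) := fun w =>
    haveI : IsIso (χ w).base := by rw [(hχ w).1]; infer_instance
    isIso_of_base _
  let θ : ∀ w, y.obj (gob w) ≅ (atlas G K aX).obj (xob w) := fun w => (asIso (χ w)).symm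
  have hθv : ∀ w, (AlgSt.QuotSt K G aX).p.IsHomLift (𝟙 ((FibCat.overCat U).p.obj (gob w))) (θ w).hom := fun w => by
    have h1 : (AlgSt.QuotSt K G aX).p.IsHomLift (𝟙 w.left) (χ w) :=
      vert_change _ _ (vert_of_map_eq _ (h := (y.w_obj (gob w)).symm) (hχ w).1) rfl
    exact vert_inv (AlgSt.QuotSt K G aX).p (asIso (χ w)) h1
  have hnat : ∀ {w w' : (FibCat.overCat A.P).obj} (φ : w ⟶ w'),
      y.map (Over.homMk φ.left (by simp [gob, reassoc_of% (Over.w φ)]) : gob w ⟶ gob w') ≫ (θ w').hom =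
        (θ w).hom ≫ (atlas G K aX).map (Over.homMk φ.left (by simp [xob, reassoc_of% (Over.w φ)]) : xob w ⟶ xob w') := by
    intro w w' φ
    let g₁ : gob w ⟶ gob w' := Over.homMk φ.left (by simp [gob, reassoc_of% (Over.w φ)])
    let g₂ : xob w ⟶ xob w' := Over.homMk φ.left (by simp [xob, reassoc_of% (Over.w φ)])
    show y.map g₁ ≫ inv (χ w') = inv (χ w) ≫ (atlas G K aX).map g₂
    rw [IsIso.eq_inv_comp, ← Category.assoc, IsIso.comp_inv_eq]
    refine fibGrpd_ext hG (toTop y (gob w')) ?_ ?_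
    · show (χ w).base ≫ (y.map g₁).base = φ.left ≫ (χ w').base
      rw [(hχ w).1, (hχ w').1]
      have := based_map y g₁
      rw [show (y.map g₁).base = eqToHom (y.w_obj (gob w)) ≫ φ.left ≫ eqToHom (y.w_obj (gob w')).symm from this]
      simp
    · rw [Category.assoc, toTop_comp, (hχ w).2, Category.assoc, (hχ w').2]
      refine AlgSt.QuotObj.hom_ext ?_ ?_
      · show (h w).base = φ.left ≫ (h w').base
        rw [hb, hb]
        exact (congrArg (· ≫ A.π) (Over.w φ)).symm.trans (Category.assoc _ _ _)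
      · show (h w).top = (G ◁ φ.left) ≫ (h w').top
        rw [ht, ht]
        show _ = (G ◁ φ.left) ≫ smulPt A.act _ _
        rw [comp_smulPt]
        congr 1
        · simp
        · rw [← Category.assoc, whiskerLeft_snd, Category.assoc, Over.w φ]
  let E : FibCat.overCat A.P ⥤ᵇ FibCat.fp y (atlas G K aX) :=
    { toFunctor :=
        { obj := fun w => fpMk (gob w) (xob w) (θ w) (hθv w)
          map := fun {w w'} φ => fpHom (Over.homMk φ.left (by simp [gob, fpMk, reassoc_of% (Over.w φ)]))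
            (Over.homMk φ.left (by simp [xob, fpMk, reassoc_of% (Over.w φ)])) (hnat φ)
          map_id := fun w => fp_hom_ext (Over.OverMorphism.ext rfl) (Over.OverMorphism.ext rfl)
          map_comp := fun φ ψ => fp_hom_ext (Over.OverMorphism.ext rfl) (Over.OverMorphism.ext rfl) }
      w := rfl }
  refine ⟨c, E, EqvData.isEquivOver ⟨⟨fun {w w'} t => ?_⟩, ⟨fun {w w'} φ ψ e => ?_⟩, fun z => ?_⟩, rfl, eA, rfl⟩
  · let g₁ : gob w ⟶ gob w' := t.hom.fst
    let g₂ : xob w ⟶ xob w' := t.hom.snd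
    have e12 : g₂.left = g₁.left := (fp_map_snd t).trans ((Category.id_comp _).trans (Category.comp_id _))
    have hw : y.map g₁ ≫ inv (χ w') = inv (χ w) ≫ (atlas G K aX).map g₂ := t.hom.w
    rw [IsIso.eq_inv_comp, ← Category.assoc, IsIso.comp_inv_eq] at hw
    have key : h w = (atlas G K aX).map g₂ ≫ h w' := by
      rw [← (hχ w).2, ← (hχ w').2, ← Category.assoc, ← hw, Category.assoc, toTop_comp]
    have ev : ∀ v : (FibCat.overCat A.P).obj, unitSec v.left ≫ (h v).top = v.hom := fun v => by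
      rw [ht]
      show unitSec v.left ≫ smulPt A.act _ _ = v.hom
      rw [comp_smulPt, lift_fst, lift_snd_assoc, Category.id_comp, smulPt_one]
    have hsec : g₁.left ≫ w'.hom = w.hom := by
      have h1 : unitSec w.left ≫ (h w).top = unitSec w.left ≫ (G ◁ g₂.left) ≫ (h w').top :=
        congrArg (unitSec w.left ≫ ·) (top_congr key)
      rw [ev] at h1
      rw [← e12]
      refine ((congrArg (g₂.left ≫ ·) (ev w').symm).trans ?_).trans h1.symm
      exact (Category.assoc _ _ _).symm.trans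
        ((congrArg (· ≫ (h w').top) (unitSec_whisker g₂.left).symm).trans (Category.assoc _ _ _))
    exact ⟨Over.homMk g₁.left hsec, fp_hom_ext (Over.OverMorphism.ext rfl) (Over.OverMorphism.ext e12.symm)⟩
  · exact Over.OverMorphism.ext (congrArg (fun t => t.hom.fst.left) e)
  · let g := z.obj.fst
    let x := z.obj.snd
    let f : g.left ⟶ x.left := eqToHom (fp_base_eq z).symm
    let k : (atlas G K aX).obj x ⟶ A := z.obj.iso.inv ≫ toTop y g
    let p : x.left ⟶ A.P := unitSec x.left ≫ k.top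
    have hp1 : p ≫ A.π = k.base := (Category.assoc _ _ _).trans (unitSec_top_π k)
    have hp2 : p ≫ A.φ = x.hom := by
      show (unitSec x.left ≫ k.top) ≫ A.φ = x.hom
      rw [Category.assoc, k.wφ]
      exact unitSec_φ x.hom
    let w : (FibCat.overCat A.P).obj := Over.mk (f ≫ p)
    have hiv : z.obj.iso.inv.base =
        eqToHom ((fp_base_eq z).trans (y.w_obj g).symm) := by
      have h1 := fp_iso_map z
      have h2 := congrArg AlgSt.QuotObj.Hom.base z.obj.iso.hom_inv_id
      have h3 : z.obj.iso.hom.base ≫ z.obj.iso.inv.base = 𝟙 _ := h2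
      rw [show z.obj.iso.hom.base = eqToHom _ from h1, eqToHom_comp_iff] at h3
      rw [h3]
      simp
    have hk : k.base = eqToHom (fp_base_eq z) ≫ g.hom ≫ eqToHom eA.symm := by
      show z.obj.iso.inv.base ≫ (toTop y g).base = _
      rw [hiv, show (toTop y g).base = _ from toTop_map y g]
      simp
    let i₁ : gob w ≅ g := Over.isoMk (Iso.refl _) (by
      show 𝟙 _ ≫ g.hom = (f ≫ p) ≫ A.π ≫ eqToHom eA
      rw [Category.id_comp, Category.assoc, reassoc_of% hp1, hk]
      simp [f])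
    let i₂ : xob w ≅ x := Over.isoMk (eqToIso (fp_base_eq z).symm) (by
      show f ≫ x.hom = (f ≫ p) ≫ A.φ
      rw [Category.assoc, hp2])
    refine ⟨w, fpIsoMk i₁ i₂ ?_, fpIsoMk_vert _ _ _ (vert_of_map_eq (FibCat.overCat U).p (h := rfl) (φ := i₁.hom) rfl)⟩
    show y.map i₁.hom ≫ z.obj.iso.hom = inv (χ w) ≫ (atlas G K aX).map i₂.hom
    rw [IsIso.eq_inv_comp, ← Category.assoc, ← Iso.eq_comp_inv]
    refine fibGrpd_ext hG (toTop y g) ?_ ?_
    · show (χ w).base ≫ (y.map i₁.hom).base = f ≫ z.obj.iso.inv.base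
      rw [(hχ w).1, hiv, show (y.map i₁.hom).base = _ from based_map y i₁.hom]
      simp [i₁, f]
    · rw [Category.assoc, toTop_comp, (hχ w).2, Category.assoc]
      refine AlgSt.QuotObj.hom_ext ?_ ?_
      · show (h w).base = f ≫ k.base
        rw [hb]
        exact (Category.assoc _ _ _).trans (congrArg (f ≫ ·) hp1)
      · show (h w).top = (G ◁ f) ≫ k.top
        rw [ht]
        refine Eq.trans ?_ (congrArg ((G ◁ f) ≫ ·) (top_eq k)).symm
        show smulPt A.act (fst G g.left) (snd G g.left ≫ f ≫ p) = (G ◁ f) ≫ smulPt A.act _ _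
        rw [comp_smulPt, whiskerLeft_fst, whiskerLeft_snd_assoc]

end Groth.Agent.Stk19b.Quot
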