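import Groth.Agent.Stk19b.Quot.Basic
import Groth.Agent.Stk19.Elem

/-! Gluing of morphisms of `[X/G]` for a subcanonical topology. -/

set_option autoImplicit false
set_option backward.isDefEq.respectTransparency false
set_option backward.isDefEq.respectTransparency.types false

universe v' u' u

open CategoryTheory CategoryTheory.Limits AlgebraicGeometry MonoidalCategory CartesianMonoidalCategory MonObj GrpObj
open Groth.Agent.Stk19b.QuotTriv

namespace Groth.Agent.Stk19b.Quot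

section Generic

variable {C : Type u'} [Category.{v'} C] (J : GrothendieckTopology C) [J.Subcanonical] {U : C} {R : Sieve U}

theorem hom_ext_of_cover (hR : R ∈ J U) {M Y : C} (m : M ⟶ U) {l l' : M ⟶ Y}
    (h : ∀ ⦃Z : C⦄ (k : Z ⟶ M), R (k ≫ m) → k ≫ l = k ≫ l') : l = l' :=
  (GrothendieckTopology.Subcanonical.isSheaf_of_isRepresentable (J := J) (yoneda.obj Y) _
    (J.pullback_stable m hR)).isSeparatedFor.ext fun _ k hk => h k hk

theorem existsUnique_glueHom (hR : R ∈ J U) {M Y : C} (m : M ⟶ U)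
    (t : ∀ ⦃Z : C⦄ (k : Z ⟶ M), R (k ≫ m) → (Z ⟶ Y))
    (ht : ∀ ⦃Z' Z : C⦄ (g : Z' ⟶ Z) (k : Z ⟶ M) (h : R (k ≫ m)) (h' : R ((g ≫ k) ≫ m)),
      t (g ≫ k) h' = g ≫ t k h) :
    ∃! l : M ⟶ Y, ∀ ⦃Z : C⦄ (k : Z ⟶ M) (h : R (k ≫ m)), k ≫ l = t k h := by
  obtain ⟨l, hl, hu⟩ := GrothendieckTopology.Subcanonical.isSheaf_of_isRepresentable (J := J) (yoneda.obj Y) _
    (J.pullback_stable m hR) (fun Z k hk => t k hk)
    ((Presieve.compatible_iff_sieveCompatible _).2 fun Z Z' k g hk => ht g k hk _)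
  exact ⟨l, fun Z k h => hl k h, fun l' hl' => hu l' fun Z k h => hl' k h⟩

/-- A morphism is an isomorphism if points factor uniquely through it locally. -/
theorem isIso_of_existsUnique (hR : R ∈ J U) {M N : C} (f : M ⟶ N) (n : N ⟶ U)
    (h : ∀ ⦃Z : C⦄ (k : Z ⟶ N), R (k ≫ n) → ∃! l : Z ⟶ M, l ≫ f = k) : IsIso f := by
  obtain ⟨g, hg, -⟩ := existsUnique_glueHom J hR n (fun Z k hk => (h k hk).exists.choose) fun Z' Z r k hk hk' =>
    (h (r ≫ k) hk').unique (h (r ≫ k) hk').exists.choose_spec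
      (by rw [Category.assoc, (h k hk).exists.choose_spec])
  refine ⟨⟨g, ?_, ?_⟩⟩
  · refine hom_ext_of_cover J hR (f ≫ n) fun Z k hk => ?_
    rw [Category.comp_id, ← Category.assoc, hg (k ≫ f) (by rwa [Category.assoc])]
    exact (h (k ≫ f) (by rwa [Category.assoc])).unique (h (k ≫ f) (by rwa [Category.assoc])).exists.choose_spec rfl
  · refine hom_ext_of_cover J hR n fun Z k hk => ?_
    rw [Category.comp_id, ← Category.assoc, hg k hk, (h k hk).exists.choose_spec]

end Generic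

variable {S : Scheme.{u}} {G X : Over S} [GrpObj G] {K : Precoverage Scheme.{u}} {aX : AlgGrp.Action G X}
  [K.IsStableUnderBaseChange]

/-- The point of the base change given by a point. -/
noncomputable abbrev pbPt (A : AlgSt.QuotObj K G aX) {Z : Over S} (k : Z ⟶ A.P) : Z ⟶ pullback A.π (k ≫ A.π) :=
  pullback.lift k (𝟙 Z) (Category.id_comp _).symm

theorem pbPt_comp {A : AlgSt.QuotObj K G aX} {B : AlgSt.QuotObj K G aX} (ν : B ⟶ A) {Z : Over S} (k : Z ⟶ B.P)
    (c : pb A ((k ≫ ν.top) ≫ A.π) ⟶ B) (hc : c.base = k ≫ B.π) (hν : c ≫ ν = pbHom A _) :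
    pbPt A (k ≫ ν.top) ≫ c.top = k := by
  apply ν.cart.hom_ext
  · rw [Category.assoc]
    refine (congrArg (pbPt A (k ≫ ν.top) ≫ ·) (congrArg AlgSt.QuotObj.Hom.top hν)).trans ?_
    exact pullback.lift_fst _ _ _
  · rw [Category.assoc, c.cart.w, hc]
    exact pullback.lift_snd_assoc _ _ _ _ |>.trans (Category.id_comp _)

open Groth.Agent.Stk19 in
theorem homGlue (J : GrothendieckTopology (Over S)) [J.Subcanonical] {U : Over S} {R : Sieve U} (hR : R ∈ J U) :
    HomGlue (AlgSt.QuotSt K G aX) R := by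
  rintro x y (rfl : x.base = U) (hy : y.base = x.base) t ht tn
  have hmem : ∀ {Z : Over S} (k : Z ⟶ x.P), R (k ≫ x.π) → R ((pbHom x (k ≫ x.π)).base ≫ 𝟙 _) := fun k hk => by
    rwa [Category.comp_id]
  have hb : ∀ z ν h, (t z ν h).base = AlgSt.QuotObj.Hom.base ν ≫ eqToHom hy.symm := fun z ν h => ht z ν h
  obtain ⟨top, htop, -⟩ := existsUnique_glueHom J hR x.π
    (fun Z k hk => pbPt x k ≫ (t _ (pbHom x (k ≫ x.π)) (hmem k hk)).top) fun Z' Z g k hk hk' => by
      obtain ⟨c, ⟨hcb, hc⟩, -⟩ := existsUnique_fac (pbHom x (k ≫ x.π)) (pbHom x ((g ≫ k) ≫ x.π)) g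
        (Category.assoc _ _ _).symm
      have e1 := tn _ _ c (pbHom x (k ≫ x.π)) (hmem k hk)
        (by rw [hc]; exact hmem (g ≫ k) hk')
      have e2 : pbPt x (g ≫ k) ≫ c.top = g ≫ pbPt x k := by
        apply (pbHom x (k ≫ x.π)).cart.hom_ext
        · rw [Category.assoc]
          refine (congrArg (pbPt x (g ≫ k) ≫ ·) (congrArg AlgSt.QuotObj.Hom.top hc)).trans ?_
          simp [pbHom, pb]
        · rw [Category.assoc, c.cart.w, hcb]
          refine ((pullback.lift_snd_assoc _ _ _ _).trans (Category.id_comp _)).trans ?_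
          show g = (g ≫ pbPt x k) ≫ pullback.snd _ _
          rw [Category.assoc, pullback.lift_snd, Category.comp_id]
      simp only [hc] at e1
      show pbPt x (g ≫ k) ≫ _ = _
      rw [e1, AlgSt.QuotObj.comp_top, reassoc_of% e2]
  -- every arrow of the datum factors
  have key : ∀ z (ν : z ⟶ x) h, ν.top ≫ top = (t z ν h).top := fun z ν h => by
    have hk : R (ν.top ≫ x.π) := by
      rw [ν.cart.w]
      have h' : R (ν.base ≫ 𝟙 _) := h
      rw [Category.comp_id] at h'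
      exact R.downward_closed h' _
    refine (htop ν.top hk).trans ?_
    obtain ⟨c, ⟨hcb, hc⟩, -⟩ := existsUnique_fac ν (pbHom x (ν.top ≫ x.π)) z.π ν.cart.w.symm
    have e1 := tn _ _ c ν h (by rw [hc]; exact hmem _ hk)
    simp only [hc] at e1
    rw [e1, AlgSt.QuotObj.comp_top]
    have e2 : pbPt x (ν.top) ≫ c.top = 𝟙 z.P := by
      apply ν.cart.hom_ext
      · rw [Category.assoc, Category.id_comp]
        refine (congrArg (pbPt x ν.top ≫ ·) (congrArg AlgSt.QuotObj.Hom.top hc)).trans ?_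
        exact pullback.lift_fst _ _ _
      · rw [Category.assoc, c.cart.w, hcb]
        exact (pullback.lift_snd_assoc _ _ _ _).trans (Category.id_comp _)
    rw [reassoc_of% e2]
  have heqv : x.act.act ≫ top = (G ◁ top) ≫ y.act.act := by
    refine hom_ext_of_cover J hR (snd G x.P ≫ x.π) fun Z k hk => ?_
    have hk' : R ((k ≫ snd G x.P) ≫ x.π) := by rwa [Category.assoc]
    let ν := pbHom x ((k ≫ snd G x.P) ≫ x.π)
    let s := pbPt x (k ≫ snd G x.P)
    have hs : k = lift (k ≫ fst G x.P) (s ≫ ν.top) := by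
      apply CartesianMonoidalCategory.hom_ext <;> simp [s, ν, pbHom]
    let τ := t _ ν (hmem _ hk')
    have hτ : ν.top ≫ top = τ.top := key _ ν (hmem _ hk')
    have e : ∀ g : Z ⟶ G, smulPt x.act g (s ≫ ν.top) ≫ top = smulPt y.act g ((s ≫ ν.top) ≫ top) := fun g => by
      have e1 := hom_top_smul ν g s
      have e2 := hom_top_smul τ g s
      rw [← hτ] at e2
      calc smulPt x.act g (s ≫ ν.top) ≫ top = (smulPt (pb x _).act g s ≫ ν.top) ≫ top :=
            congrArg (· ≫ top) e1.symm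
        _ = smulPt (pb x _).act g s ≫ ν.top ≫ top := Category.assoc _ _ _
        _ = smulPt y.act g (s ≫ ν.top ≫ top) := e2
        _ = smulPt y.act g ((s ≫ ν.top) ≫ top) := congrArg _ (Category.assoc _ _ _).symm
    calc k ≫ x.act.act ≫ top = lift (k ≫ fst G x.P) (s ≫ ν.top) ≫ x.act.act ≫ top := congrArg (· ≫ _) hs
      _ = smulPt x.act (k ≫ fst G x.P) (s ≫ ν.top) ≫ top := (Category.assoc _ _ _).symm
      _ = lift (k ≫ fst G x.P) ((s ≫ ν.top) ≫ top) ≫ y.act.act := e _
      _ = lift (k ≫ fst G x.P) (s ≫ ν.top) ≫ (G ◁ top) ≫ y.act.act := (lift_whiskerLeft_assoc _ _ _ _).symm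
      _ = k ≫ (G ◁ top) ≫ y.act.act := congrArg (· ≫ _) hs.symm
  have hπ : top ≫ y.π = x.π ≫ eqToHom hy.symm := by
    refine hom_ext_of_cover J hR x.π fun Z k hk => ?_
    rw [reassoc_of% (htop k hk), (t _ (pbHom x (k ≫ x.π)) (hmem k hk)).cart.w, hb]
    refine (pullback.lift_snd_assoc _ _ _ _).trans ((Category.id_comp _).trans ?_)
    exact Category.assoc _ _ _
  have hφ : top ≫ y.φ = x.φ := by
    refine hom_ext_of_cover J hR x.π fun Z k hk => ?_
    rw [reassoc_of% (htop k hk), (t _ (pbHom x (k ≫ x.π)) (hmem k hk)).wφ]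
    simp [pb]
  haveI : IsIso top := by
    refine isIso_of_existsUnique J hR top (y.π ≫ eqToHom hy) fun Z k hk => ?_
    let ν := pbHom x (k ≫ y.π ≫ eqToHom hy)
    have hν : R ((ν.base) ≫ 𝟙 _) := by rw [Category.comp_id]; exact hk
    let τ := t _ ν hν
    have hτ : k ≫ y.π = 𝟙 Z ≫ τ.base := by rw [hb]; simp [ν, pbHom]
    refine ⟨τ.cart.lift k (𝟙 Z) hτ ≫ ν.top, ?_, fun l hl => ?_⟩
    · show (_ ≫ _) ≫ top = k
      rw [Category.assoc, key _ ν hν, τ.cart.lift_fst]
    · have hl' : l ≫ x.π = 𝟙 Z ≫ ν.base := by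
        have := congrArg (· ≫ y.π ≫ eqToHom hy) hl
        simp only [Category.assoc, reassoc_of% hπ, eqToHom_trans, eqToHom_refl, Category.comp_id] at this
        simpa [ν, pbHom] using this
      have e : ν.cart.lift l (𝟙 Z) hl' = τ.cart.lift k (𝟙 Z) hτ := by
        apply τ.cart.hom_ext
        · rw [τ.cart.lift_fst, ← key _ ν hν, ν.cart.lift_fst_assoc]
          exact hl
        · rw [τ.cart.lift_snd]
          exact ν.cart.lift_snd _ _ _
      rw [← e, ν.cart.lift_fst]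
  refine ⟨{ base := eqToHom hy.symm, top := top, eqv := heqv, cart := IsPullback.of_horiz_isIso ⟨hπ⟩, wφ := hφ },
    ⟨rfl, fun z ν h => AlgSt.QuotObj.hom_ext (hb z ν h).symm (key z ν h)⟩, ?_⟩
  rintro χ ⟨h1, h2⟩
  refine AlgSt.QuotObj.hom_ext h1 ?_
  refine hom_ext_of_cover J hR x.π fun Z k hk => ?_
  show k ≫ χ.top = k ≫ top
  rw [htop k hk, ← h2 _ (pbHom x (k ≫ x.π)) (hmem k hk)]
  simp [pbHom]

end Groth.Agent.Stk19b.Quot
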