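import Groth.Agent.Stk19b.Quot.ToSheaf
import Groth.Agent.Stk19.Elem
import Groth.Agent.Stk19.Gerbe

/-!
# Functors from `[X/G]` to a stack

An equivariant family of objects of a stack on the points of `X` descends to a functor on `[X/G]`.
-/

set_option autoImplicit false
set_option backward.isDefEq.respectTransparency false
set_option backward.isDefEq.respectTransparency.types false

universe u v w

open CategoryTheory CategoryTheory.Limits AlgebraicGeometry MonoidalCategory CartesianMonoidalCategory MonObj GrpObj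
open Groth.Agent.Stk19 Groth.Agent.Desc19 Groth.Agent.Stk19b.QuotTriv

namespace Groth.Agent.Stk19b.Quot

variable {S : Scheme.{u}} {G X : Over S} [GrpObj G]

/-- Objects of `𝒳` at the points of `X`, with the arrows given by the action groupoid of `G` on `X`. -/
structure ActDatum (aX : AlgGrp.Action G X) (𝒳 : BasedCategory.{v, w} (Over S)) where
  /-- the object at a point -/
  obj {Z : Over S} (z : Z ⟶ X) : 𝒳.obj
  obj_p {Z : Over S} (z : Z ⟶ X) : 𝒳.p.obj (obj z) = Z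
  /-- the arrow of `(k, g)` -/
  map {Z W : Over S} (z : Z ⟶ X) (w : W ⟶ X) (k : Z ⟶ W) (g : Z ⟶ G) (h : smulPt aX g z = k ≫ w) :
    obj z ⟶ obj w
  map_p {Z W : Over S} (z : Z ⟶ X) (w : W ⟶ X) (k : Z ⟶ W) (g : Z ⟶ G) (h : smulPt aX g z = k ≫ w) :
    𝒳.p.map (map z w k g h) = eqToHom (obj_p z) ≫ k ≫ eqToHom (obj_p w).symm
  map_id {Z : Over S} (z : Z ⟶ X) (h : smulPt aX (1 : Z ⟶ G) z = 𝟙 Z ≫ z) : map z z (𝟙 Z) 1 h = 𝟙 (obj z)
  map_comp {Z W V : Over S} (z : Z ⟶ X) (w : W ⟶ X) (v : V ⟶ X) (k : Z ⟶ W) (g : Z ⟶ G)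
    (h : smulPt aX g z = k ≫ w) (l : W ⟶ V) (g' : W ⟶ G) (h' : smulPt aX g' w = l ≫ v)
    (h'' : smulPt aX ((k ≫ g') * g) z = (k ≫ l) ≫ v) :
    map z w k g h ≫ map w v l g' h' = map z v (k ≫ l) ((k ≫ g') * g) h''

namespace ActDatum

variable {K : Precoverage Scheme.{u}} {aX : AlgGrp.Action G X} {𝒳 : BasedCategory.{v, w} (Over S)}
  (D : ActDatum aX 𝒳) (A : AlgSt.QuotObj K G aX)

/-- The element carrying `p` to `k ≫ q`. -/
noncomputable def el {Z W : Over S} (p : Z ⟶ A.P) (q : W ⟶ A.P) (k : Z ⟶ W)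
    (h : k ≫ q ≫ A.π = p ≫ A.π) : Z ⟶ G :=
  (existsUnique_smul A p (k ≫ q) (by rw [Category.assoc]; exact h)).choose

theorem el_spec {Z W : Over S} (p : Z ⟶ A.P) (q : W ⟶ A.P) (k : Z ⟶ W) (h : k ≫ q ≫ A.π = p ≫ A.π) :
    smulPt A.act (el A p q k h) p = k ≫ q :=
  (existsUnique_smul A p (k ≫ q) (by rw [Category.assoc]; exact h)).choose_spec.1

theorem el_eq {Z W : Over S} (p : Z ⟶ A.P) (q : W ⟶ A.P) (k : Z ⟶ W) (h : k ≫ q ≫ A.π = p ≫ A.π)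
    {g : Z ⟶ G} (hg : smulPt A.act g p = k ≫ q) : g = el A p q k h :=
  (existsUnique_smul A p (k ≫ q) (by rw [Category.assoc]; exact h)).choose_spec.2 g hg

theorem φ_of_smul {Z W : Over S} {p : Z ⟶ A.P} {q : W ⟶ A.P} {k : Z ⟶ W} {g : Z ⟶ G}
    (hg : smulPt A.act g p = k ≫ q) : smulPt aX g (p ≫ A.φ) = k ≫ q ≫ A.φ := by
  rw [← comp_φ, hg, Category.assoc]

/-- The arrow between the objects at two points of a torsor over the same point of the base. -/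
noncomputable def E {Z W : Over S} (p : Z ⟶ A.P) (q : W ⟶ A.P) (k : Z ⟶ W)
    (h : k ≫ q ≫ A.π = p ≫ A.π) : D.obj (p ≫ A.φ) ⟶ D.obj (q ≫ A.φ) :=
  D.map _ _ k (el A p q k h) (φ_of_smul A (el_spec A p q k h))

theorem E_p {Z W : Over S} (p : Z ⟶ A.P) (q : W ⟶ A.P) (k : Z ⟶ W) (h : k ≫ q ≫ A.π = p ≫ A.π) :
    𝒳.p.map (D.E A p q k h) = eqToHom (D.obj_p _) ≫ k ≫ eqToHom (D.obj_p _).symm :=
  D.map_p _ _ _ _ _

theorem map_congr {Z W : Over S} {z z' : Z ⟶ X} {w w' : W ⟶ X} {k k' : Z ⟶ W} {g g' : Z ⟶ G}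
    (ez : z = z') (ew : w = w') (ek : k = k') (eg : g = g') (h : smulPt aX g z = k ≫ w)
    (h' : smulPt aX g' z' = k' ≫ w') :
    D.map z w k g h ≫ eqToHom (congrArg D.obj ew) = eqToHom (congrArg D.obj ez) ≫ D.map z' w' k' g' h' := by
  subst ez ew ek eg
  simp

theorem map_congr' {Z W : Over S} {z : Z ⟶ X} {w : W ⟶ X} {k k' : Z ⟶ W} {g g' : Z ⟶ G}
    (ek : k = k') (eg : g = g') (h : smulPt aX g z = k ≫ w) (h' : smulPt aX g' z = k' ≫ w) :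
    D.map z w k g h = D.map z w k' g' h' := by
  subst ek eg
  rfl

theorem E_eq {Z W : Over S} (p : Z ⟶ A.P) (q : W ⟶ A.P) (k : Z ⟶ W) (h : k ≫ q ≫ A.π = p ≫ A.π)
    {g : Z ⟶ G} (hg : smulPt A.act g p = k ≫ q) :
    D.E A p q k h = D.map _ _ k g (φ_of_smul A hg) :=
  D.map_congr' rfl (el_eq A p q k h hg).symm _ _

theorem E_id {Z : Over S} (p : Z ⟶ A.P) (h : 𝟙 Z ≫ p ≫ A.π = p ≫ A.π) : D.E A p p (𝟙 Z) h = 𝟙 _ := by
  rw [D.E_eq A p p (𝟙 Z) h (g := 1) (by rw [smulPt_one, Category.id_comp]), D.map_id]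

theorem E_comp {Z W V : Over S} (p : Z ⟶ A.P) (q : W ⟶ A.P) (r : V ⟶ A.P) (k : Z ⟶ W) (l : W ⟶ V)
    (h : k ≫ q ≫ A.π = p ≫ A.π) (h' : l ≫ r ≫ A.π = q ≫ A.π) :
    D.E A p q k h ≫ D.E A q r l h' = D.E A p r (k ≫ l) (by rw [Category.assoc, h', h]) := by
  have hg : smulPt A.act ((k ≫ el A q r l h') * el A p q k h) p = (k ≫ l) ≫ r := by
    rw [smulPt_mul, el_spec, ← comp_smulPt, el_spec, Category.assoc]
  rw [E, E, D.E_eq A p r (k ≫ l) _ hg]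
  exact D.map_comp _ _ _ _ _ _ _ _ _ _

variable (h𝒳 : Stk.IsStack (QuotSh.J K S) 𝒳)

theorem exists_lift_point (a : (Stk.sieveCat (Sieve.generate (Presieve.singleton A.π))).obj) :
    ∃ p : a.obj.left ⟶ A.P, p ≫ A.π = a.obj.hom := by
  obtain ⟨W, l, g, ⟨⟩, hlg⟩ := a.property
  exact ⟨l, hlg⟩

/-- A chosen point over a member of the covering sieve of the torsor. -/
noncomputable def pt (a : (Stk.sieveCat (Sieve.generate (Presieve.singleton A.π))).obj) : a.obj.left ⟶ A.P :=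
  (exists_lift_point A a).choose

theorem pt_π (a : (Stk.sieveCat (Sieve.generate (Presieve.singleton A.π))).obj) :
    pt A a ≫ A.π = a.obj.hom :=
  (exists_lift_point A a).choose_spec

theorem pt_cond {a b : (Stk.sieveCat (Sieve.generate (Presieve.singleton A.π))).obj} (φ : a ⟶ b) :
    φ.hom.left ≫ pt A b ≫ A.π = pt A a ≫ A.π := by
  rw [pt_π, pt_π]
  exact Over.w φ.hom

include h𝒳 in
theorem exists_glued : ∃ (o : 𝒳.obj) (ho : 𝒳.p.obj o = A.base)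
    (inj : ∀ {Z : Over S} (p : Z ⟶ A.P), D.obj (p ≫ A.φ) ⟶ o),
    (∀ {Z : Over S} (p : Z ⟶ A.P), 𝒳.p.map (inj p) = eqToHom (D.obj_p _) ≫ p ≫ A.π ≫ eqToHom ho.symm) ∧
    ∀ {Z W : Over S} (p : Z ⟶ A.P) (q : W ⟶ A.P) (k : Z ⟶ W) (h : k ≫ q ≫ A.π = p ≫ A.π),
      D.E A p q k h ≫ inj q = inj p := by
  let R := Sieve.generate (Presieve.singleton A.π)
  have hR : R ∈ QuotSh.J K S A.base := generate_π_mem A
  let D₀ : Stk.sieveCat R ⥤ᵇ 𝒳 :=
    { toFunctor :=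
        { obj := fun a => D.obj (pt A a ≫ A.φ)
          map := fun {a b} φ => D.E A (pt A a) (pt A b) φ.hom.left (pt_cond A φ)
          map_id := fun a => D.E_id A _ (pt_cond A (𝟙 a))
          map_comp := fun {a b c} φ ψ => (D.E_comp A _ _ _ _ _ (pt_cond A φ) (pt_cond A ψ)).symm }
      w := CategoryTheory.Functor.ext (fun a => D.obj_p _) fun a b φ => D.E_p A _ _ _ _ }
  obtain ⟨o, ho, ν, hν, hνn⟩ := ((isStackFor_iff_glue h𝒳.1 R).1 (h𝒳.2 R hR)).2 D₀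
  let a : ∀ {Z : Over S} (p : Z ⟶ A.P), (Stk.sieveCat R).obj := fun {Z} p =>
    ⟨Over.mk (p ≫ A.π), _, p, A.π, ⟨⟩, rfl⟩
  have ha : ∀ {Z : Over S} (p : Z ⟶ A.P), 𝟙 Z ≫ pt A (a p) ≫ A.π = p ≫ A.π := fun {Z} p => by
    rw [pt_π, Category.id_comp]
    rfl
  refine ⟨o, ho, fun {Z} p => D.E A p (pt A (a p)) (𝟙 Z) (ha p) ≫ ν (a p), fun {Z} p => ?_,
    fun {Z W} p q k h => ?_⟩
  · rw [𝒳.p.map_comp, E_p, hν]
    simp [a]
  · rw [← Category.assoc, E_comp]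
    let φ : a p ⟶ a q := ObjectProperty.homMk (Over.homMk k h)
    show _ = D.E A p (pt A (a p)) (𝟙 Z) (ha p) ≫ ν (a p)
    rw [← hνn _ _ φ]
    show _ = D.E A p (pt A (a p)) (𝟙 Z) (ha p) ≫ D.E A (pt A (a p)) (pt A (a q)) k (pt_cond A φ) ≫ ν (a q)
    rw [← Category.assoc (D.E A p (pt A (a p)) (𝟙 Z) (ha p)), E_comp]
    simp only [Category.comp_id, Category.id_comp]

/-- The object glued from the datum on a torsor. -/
noncomputable def glued : 𝒳.obj := (D.exists_glued A h𝒳).choose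

theorem glued_p : 𝒳.p.obj (D.glued A h𝒳) = A.base := (D.exists_glued A h𝒳).choose_spec.choose

/-- The arrow to the glued object from the object at a point of the torsor. -/
noncomputable def inj {Z : Over S} (p : Z ⟶ A.P) : D.obj (p ≫ A.φ) ⟶ D.glued A h𝒳 :=
  (D.exists_glued A h𝒳).choose_spec.choose_spec.choose p

theorem inj_p {Z : Over S} (p : Z ⟶ A.P) :
    𝒳.p.map (D.inj A h𝒳 p) = eqToHom (D.obj_p _) ≫ p ≫ A.π ≫ eqToHom (D.glued_p A h𝒳).symm :=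
  (D.exists_glued A h𝒳).choose_spec.choose_spec.choose_spec.1 p

theorem inj_E {Z W : Over S} (p : Z ⟶ A.P) (q : W ⟶ A.P) (k : Z ⟶ W) (h : k ≫ q ≫ A.π = p ≫ A.π) :
    D.E A p q k h ≫ D.inj A h𝒳 q = D.inj A h𝒳 p :=
  (D.exists_glued A h𝒳).choose_spec.choose_spec.choose_spec.2 p q k h

theorem inj_congr {Z : Over S} {p q : Z ⟶ A.P} (e : p = q) :
    eqToHom (congrArg (fun r => D.obj (r ≫ A.φ)) e) ≫ D.inj A h𝒳 q = D.inj A h𝒳 p := by
  subst e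
  simp

include h𝒳 in
/-- The glued object has the universal property of the colimit of the datum. -/
theorem existsUnique_out (y : 𝒳.obj) (m : A.base ⟶ 𝒳.p.obj y)
    (τ : ∀ {Z : Over S} (p : Z ⟶ A.P), D.obj (p ≫ A.φ) ⟶ y)
    (hτ : ∀ {Z : Over S} (p : Z ⟶ A.P), 𝒳.p.map (τ p) = eqToHom (D.obj_p _) ≫ p ≫ A.π ≫ m)
    (hn : ∀ {Z W : Over S} (p : Z ⟶ A.P) (q : W ⟶ A.P) (k : Z ⟶ W) (h : k ≫ q ≫ A.π = p ≫ A.π),
      D.E A p q k h ≫ τ q = τ p) :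
    ∃! χ : D.glued A h𝒳 ⟶ y, 𝒳.p.map χ = eqToHom (D.glued_p A h𝒳) ≫ m ∧
      ∀ {Z : Over S} (p : Z ⟶ A.P), D.inj A h𝒳 p ≫ χ = τ p := by
  have hX := h𝒳.1
  let R := Sieve.generate (Presieve.singleton A.π)
  obtain ⟨w, a, ew, ha⟩ := fibGrpd_lift hX y m
  choose β hβ _ using fun (Z : Over S) (p : Z ⟶ A.P) => fibGrpd_fac hX a (τ p)
    (eqToHom (D.obj_p (p ≫ A.φ)) ≫ p ≫ A.π ≫ eqToHom ew.symm) (by rw [ha, hτ]; simp)
  have hβn : ∀ {Z W : Over S} (p : Z ⟶ A.P) (q : W ⟶ A.P) (k : Z ⟶ W) (h : k ≫ q ≫ A.π = p ≫ A.π),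
      D.E A p q k h ≫ β W q = β Z p := fun {Z W} p q k h => fibGrpd_ext hX a
    (by rw [𝒳.p.map_comp, E_p, (hβ W q).1, (hβ Z p).1]; simp [reassoc_of% h])
    (by rw [Category.assoc, (hβ W q).2, (hβ Z p).2, hn])
  let hx := D.glued_p A h𝒳
  have hmem : ∀ {Z : Over S} (p : Z ⟶ A.P), R.arrows (𝒳.p.map (D.inj A h𝒳 p) ≫ eqToHom hx) := fun {Z} p => by
    refine ⟨_, eqToHom (D.obj_p _) ≫ p, A.π, ⟨⟩, ?_⟩
    rw [inj_p]
    simp [hx]
  have hsel : ∀ (z : 𝒳.obj) (ν : z ⟶ D.glued A h𝒳), R.arrows (𝒳.p.map ν ≫ eqToHom hx) →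
      ∃ t : z ⟶ w, 𝒳.p.map t = 𝒳.p.map ν ≫ eqToHom (hx.trans ew.symm) ∧
        ∀ {Z : Over S} (q : Z ⟶ A.P) (l : z ⟶ D.obj (q ≫ A.φ)), l ≫ D.inj A h𝒳 q = ν → t = l ≫ β Z q := by
    rintro z ν ⟨W, q₀, g, ⟨⟩, hq⟩
    obtain ⟨κ, ⟨hκ₁, hκ₂⟩, -⟩ := fibGrpd_fac hX (D.inj A h𝒳 q₀) ν (eqToHom (D.obj_p (q₀ ≫ A.φ)).symm) (by
      rw [inj_p, eqToHom_trans_assoc, eqToHom_refl, Category.id_comp, reassoc_of% hq]
      simp [hx])
    refine ⟨κ ≫ β _ q₀, ?_, fun {Z} q l hl => ?_⟩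
    · rw [𝒳.p.map_comp, hκ₁, (hβ _ q₀).1, eqToHom_trans_assoc, eqToHom_refl, Category.id_comp, reassoc_of% hq]
      simp
    · let k := 𝒳.p.map l ≫ eqToHom (D.obj_p (q ≫ A.φ))
      have hk : k ≫ q ≫ A.π = q₀ ≫ A.π := by
        have := congrArg 𝒳.p.map hl
        rw [𝒳.p.map_comp, inj_p] at this
        rw [hq, ← this]
        simp [k, hx]
      have e : κ ≫ D.E A q₀ q k hk = l := fibGrpd_ext hX (D.inj A h𝒳 q)
        (by rw [𝒳.p.map_comp, hκ₁, E_p]; simp [k]) (by rw [Category.assoc, inj_E, hκ₂, hl])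
      rw [← e, Category.assoc, hβn]
  choose t ht₁ ht₂ using hsel
  have hsel' : ∀ (z : 𝒳.obj) (ν : z ⟶ D.glued A h𝒳), R.arrows (𝒳.p.map ν ≫ eqToHom hx) →
      ∃ (Z : Over S) (q : Z ⟶ A.P) (l : z ⟶ D.obj (q ≫ A.φ)), l ≫ D.inj A h𝒳 q = ν := by
    rintro z ν ⟨W, q₀, g, ⟨⟩, hq⟩
    obtain ⟨κ, ⟨-, hκ₂⟩, -⟩ := fibGrpd_fac hX (D.inj A h𝒳 q₀) ν (eqToHom (D.obj_p (q₀ ≫ A.φ)).symm) (by
      rw [inj_p, eqToHom_trans_assoc, eqToHom_refl, Category.id_comp, reassoc_of% hq]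
      simp [hx])
    exact ⟨_, q₀, κ, hκ₂⟩
  obtain ⟨χ, ⟨hχ, hχt⟩, hu⟩ := (isPrestackFor_iff_glue hX R).1
    ((isStack_isPrestack h𝒳).2 R (generate_π_mem A)) (D.glued A h𝒳) w hx ew t ht₁
    (fun z' z g ν hν hν' => by
      obtain ⟨Z, q, l, hl⟩ := hsel' z ν hν
      rw [ht₂ z ν hν q l hl, ht₂ z' (g ≫ ν) hν' q (g ≫ l) (by rw [Category.assoc, hl]), Category.assoc])
  have hinj : ∀ {Z : Over S} (p : Z ⟶ A.P), D.inj A h𝒳 p ≫ χ = β Z p := fun {Z} p => by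
    rw [hχt _ _ (hmem p), ht₂ _ _ (hmem p) p (𝟙 _) (Category.id_comp _), Category.id_comp]
  refine ⟨χ ≫ a, ⟨by rw [𝒳.p.map_comp, hχ, ha]; simp, fun {Z} p => by
    rw [← Category.assoc, hinj, (hβ Z p).2]⟩, fun χ' ⟨h₁, h₂⟩ => ?_⟩
  obtain ⟨χ₁, ⟨k₁, k₂⟩, -⟩ := fibGrpd_fac hX a χ' (eqToHom (hx.trans ew.symm)) (by rw [ha, h₁]; simp)
  rw [← k₂, hu χ₁ ⟨k₁, fun z ν hν => by
    obtain ⟨Z, q, l, hl⟩ := hsel' z ν hν
    rw [ht₂ z ν hν q l hl, ← hl, Category.assoc]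
    congr 1
    exact fibGrpd_ext hX a (by rw [𝒳.p.map_comp, inj_p, k₁, (hβ Z q).1]; simp [hx])
      (by rw [Category.assoc, k₂, h₂, (hβ Z q).2])⟩]

section Functoriality

variable {A} {B C : AlgSt.QuotObj K G aX} (h : A ⟶ B)

theorem cast_eq {Z : Over S} (p : Z ⟶ A.P) : D.obj (p ≫ A.φ) = D.obj ((p ≫ h.top) ≫ B.φ) := by
  rw [Category.assoc, h.wφ]

/-- The candidate for the image of a morphism, on points. -/
noncomputable def τ {Z : Over S} (p : Z ⟶ A.P) : D.obj (p ≫ A.φ) ⟶ D.glued B h𝒳 :=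
  eqToHom (D.cast_eq h p) ≫ D.inj B h𝒳 (p ≫ h.top)

theorem τ_p {Z : Over S} (p : Z ⟶ A.P) :
    𝒳.p.map (D.τ h𝒳 h p) = eqToHom (D.obj_p _) ≫ p ≫ A.π ≫ h.base ≫ eqToHom (D.glued_p B h𝒳).symm := by
  rw [τ, 𝒳.p.map_comp, eqToHom_map, inj_p]
  simp [h.cart.w_assoc]

theorem τ_E {Z W : Over S} (p : Z ⟶ A.P) (q : W ⟶ A.P) (k : Z ⟶ W) (hk : k ≫ q ≫ A.π = p ≫ A.π) :
    D.E A p q k hk ≫ D.τ h𝒳 h q = D.τ h𝒳 h p := by
  have hg : smulPt B.act (el A p q k hk) (p ≫ h.top) = k ≫ q ≫ h.top := by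
    rw [← hom_top_smul, el_spec, Category.assoc]
  have hk' : k ≫ (q ≫ h.top) ≫ B.π = (p ≫ h.top) ≫ B.π := by
    simp only [Category.assoc, h.cart.w, reassoc_of% hk]
  rw [τ, τ, ← D.inj_E B h𝒳 (p ≫ h.top) (q ≫ h.top) k hk', ← Category.assoc, ← Category.assoc]
  congr 1
  rw [E, D.E_eq B _ _ k hk' hg]
  exact D.map_congr (by rw [Category.assoc, h.wφ]) (by rw [Category.assoc, h.wφ]) rfl rfl _ _

/-- The image of a morphism. -/
noncomputable def gMap : D.glued A h𝒳 ⟶ D.glued B h𝒳 :=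
  (D.existsUnique_out A h𝒳 _ (h.base ≫ eqToHom (D.glued_p B h𝒳).symm) (fun p => D.τ h𝒳 h p)
    (fun p => D.τ_p h𝒳 h p) (fun p q k hk => D.τ_E h𝒳 h p q k hk)).choose

theorem gMap_p : 𝒳.p.map (D.gMap h𝒳 h) =
    eqToHom (D.glued_p A h𝒳) ≫ h.base ≫ eqToHom (D.glued_p B h𝒳).symm :=
  (D.existsUnique_out A h𝒳 _ (h.base ≫ eqToHom (D.glued_p B h𝒳).symm) (fun p => D.τ h𝒳 h p)
    (fun p => D.τ_p h𝒳 h p) (fun p q k hk => D.τ_E h𝒳 h p q k hk)).choose_spec.1.1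

theorem inj_gMap {Z : Over S} (p : Z ⟶ A.P) :
    D.inj A h𝒳 p ≫ D.gMap h𝒳 h = eqToHom (D.cast_eq h p) ≫ D.inj B h𝒳 (p ≫ h.top) :=
  (D.existsUnique_out A h𝒳 _ (h.base ≫ eqToHom (D.glued_p B h𝒳).symm) (fun p => D.τ h𝒳 h p)
    (fun p => D.τ_p h𝒳 h p) (fun p q k hk => D.τ_E h𝒳 h p q k hk)).choose_spec.1.2 p

theorem gMap_unique (χ : D.glued A h𝒳 ⟶ D.glued B h𝒳)
    (h₁ : 𝒳.p.map χ = eqToHom (D.glued_p A h𝒳) ≫ h.base ≫ eqToHom (D.glued_p B h𝒳).symm)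
    (h₂ : ∀ {Z : Over S} (p : Z ⟶ A.P),
      D.inj A h𝒳 p ≫ χ = eqToHom (D.cast_eq h p) ≫ D.inj B h𝒳 (p ≫ h.top)) : χ = D.gMap h𝒳 h :=
  (D.existsUnique_out A h𝒳 _ (h.base ≫ eqToHom (D.glued_p B h𝒳).symm) (fun p => D.τ h𝒳 h p)
    (fun p => D.τ_p h𝒳 h p) (fun p q k hk => D.τ_E h𝒳 h p q k hk)).choose_spec.2 χ ⟨h₁, fun p => h₂ p⟩

theorem gMap_id : D.gMap h𝒳 (𝟙 A) = 𝟙 _ := by
  refine (D.gMap_unique h𝒳 (𝟙 A) _ (by simp) fun {Z} p => ?_).symm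
  rw [Category.comp_id]
  exact ((D.inj_congr A h𝒳 (Category.comp_id p).symm)).symm

theorem gMap_comp (g : B ⟶ C) : D.gMap h𝒳 (h ≫ g) = D.gMap h𝒳 h ≫ D.gMap h𝒳 g := by
  refine (D.gMap_unique h𝒳 (h ≫ g) _ (by rw [𝒳.p.map_comp, gMap_p, gMap_p]; simp) fun {Z} p => ?_).symm
  rw [← Category.assoc, inj_gMap, Category.assoc, inj_gMap, eqToHom_trans_assoc,
    ← D.inj_congr C h𝒳 (show (p ≫ h.top) ≫ g.top = p ≫ (h ≫ g).top by simp), eqToHom_trans_assoc]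

end Functoriality

/-- The functor on `[X/G]`. -/
noncomputable def functor : AlgSt.QuotSt K G aX ⥤ᵇ 𝒳 where
  toFunctor :=
    { obj := fun A => D.glued A h𝒳
      map := fun h => D.gMap h𝒳 h
      map_id := fun A => D.gMap_id (A := A) h𝒳
      map_comp := fun h g => D.gMap_comp h𝒳 h g }
  w := CategoryTheory.Functor.ext (fun A => D.glued_p A h𝒳) fun _ _ h => D.gMap_p h𝒳 h

/-- The datum as a functor on the category of `X`. -/
noncomputable def onPoints : AlgSt.ofSch X ⥤ᵇ 𝒳 where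
  toFunctor :=
    { obj := fun a => D.obj a.sec.down
      map := fun {a b} f => D.map a.sec.down b.sec.down f.hom 1
        (by rw [smulPt_one]; exact (congrArg ULift.down f.map_sec).symm)
      map_id := fun a => D.map_id _ (by rw [smulPt_one, Category.id_comp])
      map_comp := fun {a b c} f g => by
        have h1 : f.hom ≫ b.sec.down = a.sec.down := congrArg ULift.down f.map_sec
        have h2 : g.hom ≫ c.sec.down = b.sec.down := congrArg ULift.down g.map_sec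
        rw [D.map_comp a.sec.down b.sec.down c.sec.down f.hom 1 _ g.hom 1 _
          (by rw [MonObj.comp_one, _root_.one_mul, smulPt_one, Category.assoc, h2, h1])]
        exact D.map_congr' rfl (by rw [MonObj.comp_one, _root_.one_mul]) _ _ }
  w := CategoryTheory.Functor.ext (fun a => D.obj_p _) fun _ _ _ => D.map_p _ _ _ _ _

section QuotMap

variable [K.HasIsos]

omit A in
theorem unit_cast (a : (AlgSt.ofSch X).obj) :
    D.obj a.sec.down = D.obj (unitSec a.base ≫ ((AlgSt.quotMap K G aX).obj a).φ) :=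
  congrArg D.obj (unitSec_φ (K := K) (aX := aX) a.sec.down).symm

omit A in
theorem comp_quotMap : Nonempty (BasedFunctor.comp (AlgSt.quotMap K G aX) (D.functor h𝒳) ≅ D.onPoints) := by
  let uh : ∀ a : (AlgSt.ofSch X).obj, D.obj a.sec.down ⟶ D.glued ((AlgSt.quotMap K G aX).obj a) h𝒳 := fun a =>
    eqToHom (D.unit_cast (K := K) a) ≫ D.inj ((AlgSt.quotMap K G aX).obj a) h𝒳 (unitSec a.base)
  have hp : ∀ a : (AlgSt.ofSch X).obj, 𝒳.p.obj (D.obj a.sec.down) = 𝒳.p.obj (D.glued ((AlgSt.quotMap K G aX).obj a) h𝒳) :=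
    fun a => (D.obj_p a.sec.down).trans (D.glued_p ((AlgSt.quotMap K G aX).obj a) h𝒳).symm
  have hm : ∀ a, 𝒳.p.map (uh a) = eqToHom (hp a) := fun a => by
    have e : unitSec (G := G) a.base ≫ snd G a.base = 𝟙 _ := lift_snd _ _
    rw [𝒳.p.map_comp, eqToHom_map, inj_p]
    simp only [eqToHom_trans_assoc]
    show _ ≫ unitSec a.base ≫ snd G a.base ≫ _ = _
    rw [reassoc_of% e]
    simp
  have : ∀ a, IsIso (uh a) := fun a =>
    have : IsIso (𝒳.p.map (uh a)) := by rw [hm]; infer_instance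
    fibGrpd_isIso h𝒳.1 _
  refine ⟨(BasedNatIso.mkNatIso (NatIso.ofComponents (fun a => asIso (uh a)) fun {a b} f => ?_) fun a => ?_).symm⟩
  · show D.map _ _ f.hom 1 _ ≫ uh b = uh a ≫ D.gMap h𝒳 ((AlgSt.quotMap K G aX).map f)
    have e : unitSec a.base ≫ ((AlgSt.quotMap K G aX).map f).top = f.hom ≫ unitSec b.base := by
      show lift 1 (𝟙 a.base) ≫ (G ◁ f.hom) = f.hom ≫ lift 1 (𝟙 b.base)
      rw [lift_whiskerLeft, comp_lift, MonObj.comp_one, Category.id_comp, Category.comp_id]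
    let B := (AlgSt.quotMap K G aX).obj b
    let p : a.base ⟶ B.P := f.hom ≫ unitSec b.base
    let q : b.base ⟶ B.P := unitSec b.base
    have hk : f.hom ≫ q ≫ B.π = p ≫ B.π := (Category.assoc _ _ _).symm
    have hs : smulPt B.act 1 p = f.hom ≫ q := smulPt_one B.act p
    have eb : q ≫ B.φ = b.sec.down := unitSec_φ (K := K) (aX := aX) b.sec.down
    have ea : p ≫ B.φ = a.sec.down := by
      rw [show p ≫ B.φ = f.hom ≫ q ≫ B.φ from Category.assoc _ _ _, eb]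
      exact congrArg ULift.down f.map_sec
    have hc : smulPt aX 1 a.sec.down = f.hom ≫ b.sec.down := by
      rw [smulPt_one]
      exact (congrArg ULift.down f.map_sec).symm
    have h2 : D.map (p ≫ B.φ) (q ≫ B.φ) f.hom 1 (φ_of_smul B hs) ≫ eqToHom (congrArg D.obj eb) =
        eqToHom (congrArg D.obj ea) ≫ D.map a.sec.down b.sec.down f.hom 1 hc :=
      D.map_congr ea eb rfl rfl _ _
    simp only [uh, Category.assoc]
    rw [D.inj_gMap, ← D.inj_congr B h𝒳 (p := unitSec a.base ≫ ((AlgSt.quotMap K G aX).map f).top) (q := p) e,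
      ← D.inj_E B h𝒳 p q f.hom hk, D.E_eq B p q f.hom hk hs]
    rw [show D.map a.sec.down b.sec.down f.hom 1 hc = eqToHom (congrArg D.obj ea).symm ≫
      D.map (p ≫ B.φ) (q ≫ B.φ) f.hom 1 (φ_of_smul B hs) ≫ eqToHom (congrArg D.obj eb) by rw [h2]; simp]
    simp [q, B]
  · exact vert_change 𝒳.p _ (vert_of_map_eq 𝒳.p (hm a)) (D.obj_p _)

end QuotMap

/-- If arrows between the objects at the points correspond to group elements, automorphisms of an object with a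
section correspond to vertical automorphisms of its image. -/
theorem existsUnique_aut [K.HasIsos] (A : AlgSt.QuotObj K G aX) (e : A.base ⟶ A.P) (he : e ≫ A.π = 𝟙 A.base)
    (hD : ∀ {Z : Over S} (z : Z ⟶ X) (cc : D.obj z ⟶ D.obj z), 𝒳.p.map cc = 𝟙 _ →
      ∃! g : Z ⟶ G, ∃ h : smulPt aX g z = 𝟙 Z ≫ z, D.map z z (𝟙 Z) g h = cc)
    (cc : D.glued A h𝒳 ⟶ D.glued A h𝒳) (hcc : 𝒳.p.map cc = 𝟙 _) :
    ∃! α : A ⟶ A, α.base = 𝟙 A.base ∧ (D.functor h𝒳).map α = cc := by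
  have hX := h𝒳.1
  have hm : 𝒳.p.map (D.inj A h𝒳 e) = eqToHom ((D.obj_p _).trans (D.glued_p A h𝒳).symm) := by
    rw [inj_p, reassoc_of% he]
    simp
  have : IsIso (D.inj A h𝒳 e) :=
    have : IsIso (𝒳.p.map (D.inj A h𝒳 e)) := by rw [hm]; infer_instance
    fibGrpd_isIso hX _
  obtain ⟨g, ⟨hg, hgm⟩, hgu⟩ := hD (e ≫ A.φ) (D.inj A h𝒳 e ≫ cc ≫ inv (D.inj A h𝒳 e)) (by
    rw [𝒳.p.map_comp, 𝒳.p.map_comp, hcc, Category.id_comp, ← 𝒳.p.map_comp, IsIso.hom_inv_id, 𝒳.p.map_id])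
  -- images of automorphisms at the section
  have key : ∀ (α : A ⟶ A), α.base = 𝟙 A.base → ∀ g₁ : A.base ⟶ G, smulPt A.act g₁ (e ≫ α.top) = e →
      ∃ h, D.inj A h𝒳 e ≫ D.gMap h𝒳 α = D.map (e ≫ A.φ) (e ≫ A.φ) (𝟙 _) g₁ h ≫ D.inj A h𝒳 e := by
    intro α hα g₁ hg₁
    have hπ : 𝟙 A.base ≫ e ≫ A.π = (e ≫ α.top) ≫ A.π := by
      rw [Category.id_comp, he, Category.assoc, α.cart.w, reassoc_of% he, hα]
    have hs : smulPt A.act g₁ (e ≫ α.top) = 𝟙 _ ≫ e := by rw [Category.id_comp]; exact hg₁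
    have eφ : e ≫ A.φ = (e ≫ α.top) ≫ A.φ := by rw [Category.assoc, α.wφ]
    refine ⟨(congrArg (smulPt aX g₁) eφ).trans (φ_of_smul A hs), ?_⟩
    rw [inj_gMap, ← D.inj_E A h𝒳 (e ≫ α.top) e (𝟙 _) hπ, D.E_eq A _ _ _ hπ hs, ← Category.assoc]
    congr 1
    have := D.map_congr eφ rfl rfl rfl (h := (congrArg (smulPt aX g₁) eφ).trans (φ_of_smul A hs))
      (h' := φ_of_smul A hs)
    simpa using this.symm
  -- trivialisation
  obtain ⟨u, hu₁, hu₂⟩ := exists_hom_of_point A e (𝟙 _) he (e ≫ A.φ) rfl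
  have hge : smulPt A.act g⁻¹ e ≫ A.π = 𝟙 _ := by rw [smulPt_π, he]
  have hgφ : smulPt A.act g⁻¹ e ≫ A.φ = e ≫ A.φ := by
    rw [comp_φ]
    have := congrArg (smulPt aX g⁻¹) hg
    rw [smulPt_inv_smul, Category.id_comp] at this
    exact this.symm
  obtain ⟨u', hu'₁, hu'₂⟩ := exists_hom_of_point A (smulPt A.act g⁻¹ e) (𝟙 _) hge (e ≫ A.φ) hgφ
  have : IsIso u.base := by rw [hu₁]; exact IsIso.id _
  have := isIso_of_base u
  have hue : unitSec A.base ≫ u.top = e := by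
    rw [hu₂, comp_smulPt, lift_fst, lift_snd_assoc, Category.id_comp, smulPt_one]
  have hu'e : unitSec A.base ≫ u'.top = smulPt A.act g⁻¹ e := by
    rw [hu'₂, comp_smulPt, lift_fst, lift_snd_assoc, Category.id_comp, smulPt_one]
  let α : A ⟶ A := inv u ≫ u'
  have hαb : α.base = 𝟙 _ := by
    have h1 : u.base ≫ α.base = u'.base := by rw [← AlgSt.QuotObj.comp_base, IsIso.hom_inv_id_assoc]
    rw [hu₁, hu'₁] at h1
    exact (Category.id_comp _).symm.trans h1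
  have hαe : e ≫ α.top = smulPt A.act g⁻¹ e := by
    have h1 : u.top ≫ α.top = u'.top := by rw [← AlgSt.QuotObj.comp_top, IsIso.hom_inv_id_assoc]
    calc e ≫ α.top = unitSec A.base ≫ u.top ≫ α.top := by rw [← Category.assoc, hue]
      _ = _ := by rw [h1, hu'e]
  refine ⟨α, ⟨hαb, ?_⟩, fun α' ⟨hb', hm'⟩ => ?_⟩
  · obtain ⟨_, hk⟩ := key α hαb g (by rw [hαe, smulPt_smul_inv])
    show D.gMap h𝒳 α = cc
    rw [← cancel_epi (D.inj A h𝒳 e), hk, hgm]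
    simp
  · obtain ⟨g₁, hg₁, -⟩ := existsUnique_smul A (e ≫ α'.top) e (by
      rw [Category.assoc, α'.cart.w, reassoc_of% he, hb', he])
    obtain ⟨h₁, hk⟩ := key α' hb' g₁ hg₁
    have hm'' : D.gMap h𝒳 α' = cc := hm'
    rw [hm''] at hk
    have := hgu g₁ ⟨h₁, by rw [← cancel_mono (D.inj A h𝒳 e), ← hk]; simp⟩
    subst this
    refine AlgSt.QuotObj.hom_ext (hb'.trans hαb.symm) ?_
    have he' : e ≫ α'.top = e ≫ α.top := by
      rw [hαe]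
      exact (smulPt_inv_smul A.act g₁ (e ≫ α'.top)).symm.trans (congrArg (smulPt A.act g₁⁻¹) hg₁)
    obtain ⟨d, hd, -⟩ := existsUnique_smul A (A.π ≫ e) (𝟙 A.P) (by rw [Category.id_comp, Category.assoc, he]; simp)
    rw [← Category.id_comp α'.top, ← Category.id_comp α.top, ← hd, hom_top_smul, hom_top_smul, Category.assoc,
      Category.assoc, he']

end ActDatum

end Groth.Agent.Stk19b.Quot
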