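import Groth.Agent.Stk19b.Quot.Univ
import Groth.Agent.Stk19b.Quot.Stack
import Groth.Agent.Stk19.Glue

/-!
# Fully faithful functors on `[X/G]`

If every arrow between the objects at the points comes from exactly one group element, the descended functor is
fully faithful.
-/

set_option autoImplicit false
set_option backward.isDefEq.respectTransparency false
set_option backward.isDefEq.respectTransparency.types false

universe u v w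

open CategoryTheory CategoryTheory.Limits AlgebraicGeometry MonoidalCategory CartesianMonoidalCategory MonObj GrpObj
open Groth.Agent.Stk19 Groth.Agent.Desc19 Groth.Agent.Stk19b.QuotTriv

namespace Groth.Agent.Stk19b.Quot.ActDatum

variable {S : Scheme.{u}} {G X : Over S} [GrpObj G] {K : Precoverage Scheme.{u}} {aX : AlgGrp.Action G X}
  {𝒳 : BasedCategory.{v, w} (Over S)}

/-- Arrows between the objects at the points come from exactly one group element. -/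
def Bij (D : ActDatum aX 𝒳) : Prop :=
  ∀ {Z W : Over S} (z : Z ⟶ X) (w : W ⟶ X) (k : Z ⟶ W) (m : D.obj z ⟶ D.obj w),
    𝒳.p.map m = eqToHom (D.obj_p z) ≫ k ≫ eqToHom (D.obj_p w).symm →
      ∃! g : Z ⟶ G, ∃ h : smulPt aX g z = k ≫ w, D.map z w k g h = m

theorem arrow_ext {J : GrothendieckTopology (Over S)} (h𝒳 : Stk.IsStack J 𝒳) {a y : 𝒳.obj} {U : Over S}
    (ha : 𝒳.p.obj a = U) {R : Sieve U} (hR : R ∈ J U) (u v : a ⟶ y) (hp : 𝒳.p.map u = 𝒳.p.map v)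
    (hloc : ∀ ⦃V : Over S⦄ (f : V ⟶ U), R f → ∃ (z : 𝒳.obj) (ν : z ⟶ a), 𝒳.p.IsHomLift f ν ∧ ν ≫ u = ν ≫ v) :
    u = v := by
  have hX := h𝒳.1
  obtain ⟨w, c, ew, hc⟩ := fibGrpd_lift hX y (𝒳.p.map u)
  obtain ⟨u₁, ⟨hu₁, hu₂⟩, -⟩ := fibGrpd_fac hX c u (eqToHom ew.symm) (by rw [hc]; simp)
  obtain ⟨v₁, ⟨hv₁, hv₂⟩, -⟩ := fibGrpd_fac hX c v (eqToHom ew.symm) (by rw [hc, ← hp]; simp)
  rw [← hu₂, ← hv₂]
  congr 1
  refine vert_ext_of_prestack hX ((isStack_isPrestack h𝒳).2 R hR) u₁ v₁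
    (vert_change _ _ (vert_of_map_eq _ hu₁) ha) (vert_change _ _ (vert_of_map_eq _ hv₁) ha) fun V f hf => ?_
  obtain ⟨z, ν, hν, hνe⟩ := hloc f hf
  refine ⟨z, ν, hν, fibGrpd_ext hX c (by rw [𝒳.p.map_comp, 𝒳.p.map_comp, hu₁, hv₁]) ?_⟩
  rw [Category.assoc, Category.assoc, hu₂, hv₂, hνe]

variable (D : ActDatum aX 𝒳) (h𝒳 : Stk.IsStack (QuotSh.J K S) 𝒳) (hB : D.Bij)

theorem map_one_eq {Z : Over S} {z z' : Z ⟶ X} (e : z = z') (h : smulPt aX 1 z = 𝟙 Z ≫ z') :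
    D.map z z' (𝟙 Z) 1 h = eqToHom (congrArg D.obj e) := by
  subst e
  simp [D.map_id]

theorem isIso_map {Z : Over S} (z z' : Z ⟶ X) (g : Z ⟶ G) (h : smulPt aX g z = 𝟙 Z ≫ z') (hX : FibCat.IsFibGrpd 𝒳.p) :
    IsIso (D.map z z' (𝟙 Z) g h) :=
  have : IsIso (𝒳.p.map (D.map z z' (𝟙 Z) g h)) := by rw [D.map_p]; infer_instance
  fibGrpd_isIso hX _

include hB in
theorem eq_of_inj {A : AlgSt.QuotObj K G aX} {Z : Over S} (p q : Z ⟶ A.P) (hπ : p ≫ A.π = q ≫ A.π)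
    (e : p ≫ A.φ = q ≫ A.φ) (he : eqToHom (congrArg D.obj e) ≫ D.inj A h𝒳 q = D.inj A h𝒳 p) : p = q := by
  have hπ' : 𝟙 Z ≫ q ≫ A.π = p ≫ A.π := by rw [Category.id_comp, hπ]
  have h1 : D.E A p q (𝟙 Z) hπ' = eqToHom (congrArg D.obj e) :=
    fibGrpd_ext h𝒳.1 (D.inj A h𝒳 q) (by rw [E_p, eqToHom_map]; simp) (by rw [inj_E, he])
  have hu : el A p q (𝟙 Z) hπ' = 1 :=
    (hB _ _ (𝟙 Z) _ (D.E_p A p q _ hπ')).unique ⟨_, rfl⟩
      ⟨by rw [smulPt_one, Category.id_comp]; exact e, (D.map_one_eq e _).trans h1.symm⟩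
  have := el_spec A p q (𝟙 Z) hπ'
  rw [hu, smulPt_one, Category.id_comp] at this
  exact this

section Full

variable {A B : AlgSt.QuotObj K G aX} {f : A.base ⟶ B.base} (θ : D.glued A h𝒳 ⟶ D.glued B h𝒳)

/-- `r` is the image of the point `k` under the morphism to be. -/
def Rel (f : A.base ⟶ B.base) {Z : Over S} (k : Z ⟶ A.P) (r : Z ⟶ B.P) : Prop :=
  r ≫ B.π = k ≫ A.π ≫ f ∧
    ∃ e : k ≫ A.φ = r ≫ B.φ, eqToHom (congrArg D.obj e) ≫ D.inj B h𝒳 r = D.inj A h𝒳 k ≫ θ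

include hB in
theorem rel_unique {Z : Over S} {k : Z ⟶ A.P} {r r' : Z ⟶ B.P} (h : D.Rel h𝒳 θ f k r) (h' : D.Rel h𝒳 θ f k r') :
    r = r' := by
  obtain ⟨h1, e, he⟩ := h
  obtain ⟨h1', e', he'⟩ := h'
  refine D.eq_of_inj h𝒳 hB r r' (h1.trans h1'.symm) (e.symm.trans e') ?_
  rw [← cancel_epi (eqToHom (congrArg D.obj e)), he, ← he', eqToHom_trans_assoc]

theorem rel_comp {Z' Z : Over S} (l : Z' ⟶ Z) {k : Z ⟶ A.P} {r : Z ⟶ B.P} (h : D.Rel h𝒳 θ f k r) :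
    D.Rel h𝒳 θ f (l ≫ k) (l ≫ r) := by
  obtain ⟨h1, e, he⟩ := h
  have e' : (l ≫ k) ≫ A.φ = (l ≫ r) ≫ B.φ := by rw [Category.assoc, Category.assoc, e]
  refine ⟨by rw [Category.assoc, h1, Category.assoc], e', ?_⟩
  rw [← D.inj_E B h𝒳 (l ≫ r) r l (Category.assoc _ _ _).symm,
    ← D.inj_E A h𝒳 (l ≫ k) k l (Category.assoc _ _ _).symm, Category.assoc _ (D.inj A h𝒳 k) θ, ← he, ← Category.assoc (eqToHom _),
    ← Category.assoc (D.E A _ _ _ _),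
    D.E_eq B (l ≫ r) r l _ (g := 1) (smulPt_one _ _), D.E_eq A (l ≫ k) k l _ (g := 1) (smulPt_one _ _)]
  congr 1
  exact (D.map_congr e' e rfl rfl _ _).symm

theorem rel_smul {Z : Over S} {k : Z ⟶ A.P} {r : Z ⟶ B.P} (g : Z ⟶ G) (h : D.Rel h𝒳 θ f k r) :
    D.Rel h𝒳 θ f (smulPt A.act g k) (smulPt B.act g r) := by
  obtain ⟨h1, e, he⟩ := h
  have e' : smulPt A.act g k ≫ A.φ = smulPt B.act g r ≫ B.φ := by rw [comp_φ, comp_φ, e]
  refine ⟨by rw [smulPt_π, h1, ← Category.assoc, ← Category.assoc, smulPt_π], e', ?_⟩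
  have hA : 𝟙 Z ≫ smulPt A.act g k ≫ A.π = k ≫ A.π := by rw [Category.id_comp, smulPt_π]
  have hBB : 𝟙 Z ≫ smulPt B.act g r ≫ B.π = r ≫ B.π := by rw [Category.id_comp, smulPt_π]
  have hsA : smulPt A.act g k = 𝟙 Z ≫ smulPt A.act g k := (Category.id_comp _).symm
  have hsB : smulPt B.act g r = 𝟙 Z ≫ smulPt B.act g r := (Category.id_comp _).symm
  have := D.isIso_map _ _ g (φ_of_smul A hsA) h𝒳.1
  rw [← cancel_epi (D.map (k ≫ A.φ) (smulPt A.act g k ≫ A.φ) (𝟙 Z) g (φ_of_smul A hsA))]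
  conv_rhs => rw [← Category.assoc, ← D.E_eq A k _ (𝟙 Z) hA hsA, inj_E, ← he,
    ← D.inj_E B h𝒳 r (smulPt B.act g r) (𝟙 Z) hBB, D.E_eq B r _ (𝟙 Z) hBB hsB]
  rw [← Category.assoc, ← Category.assoc, D.map_congr e e' rfl rfl _ (φ_of_smul B hsB)]

variable (hθ : 𝒳.p.map θ = eqToHom (D.glued_p A h𝒳) ≫ f ≫ eqToHom (D.glued_p B h𝒳).symm)

include hθ hB in
theorem rel_exists {Z : Over S} (k : Z ⟶ A.P) (q : Z ⟶ B.P) (hq : q ≫ B.π = k ≫ A.π ≫ f) :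
    ∃ r, D.Rel h𝒳 θ f k r := by
  obtain ⟨m, ⟨hm1, hm2⟩, -⟩ := fibGrpd_fac h𝒳.1 (D.inj B h𝒳 q) (D.inj A h𝒳 k ≫ θ)
    (eqToHom (D.obj_p (k ≫ A.φ)) ≫ 𝟙 Z ≫ eqToHom (D.obj_p (q ≫ B.φ)).symm) (by
      rw [𝒳.p.map_comp, inj_p, inj_p, hθ]
      simp [reassoc_of% hq])
  obtain ⟨g, ⟨hg, hgm⟩, -⟩ := hB _ _ _ m hm1
  have hs : smulPt B.act g (smulPt B.act g⁻¹ q) = 𝟙 Z ≫ q := by rw [smulPt_smul_inv, Category.id_comp]
  have e : k ≫ A.φ = smulPt B.act g⁻¹ q ≫ B.φ := by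
    rw [comp_φ, ← smulPt_inv_smul aX g (k ≫ A.φ), hg, Category.id_comp]
  refine ⟨smulPt B.act g⁻¹ q, by rw [smulPt_π, hq], e, ?_⟩
  rw [← D.inj_E B h𝒳 (smulPt B.act g⁻¹ q) q (𝟙 Z) (by rw [Category.id_comp, smulPt_π]), ← Category.assoc,
    D.E_eq B _ q (𝟙 Z) _ hs, ← hm2, ← hgm]
  congr 1
  have := D.map_congr e (rfl : q ≫ B.φ = q ≫ B.φ) (rfl : 𝟙 Z = 𝟙 Z) (rfl : g = g) hg (φ_of_smul B hs)
  simpa using this.symm

include hθ hB in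
theorem exists_top [(QuotSh.J K S).Subcanonical] :
    ∃ top : A.P ⟶ B.P, ∀ {Z : Over S} (k : Z ⟶ A.P), D.Rel h𝒳 θ f k (k ≫ top) := by
  let J := QuotSh.J K S
  let R := Sieve.generate (Presieve.singleton B.π)
  have hR : R ∈ J B.base := generate_π_mem B
  have hex : ∀ {Z : Over S} (k : Z ⟶ A.P), R (k ≫ A.π ≫ f) → ∃ r, D.Rel h𝒳 θ f k r := by
    rintro Z k ⟨W, q, g, ⟨⟩, hq⟩
    exact D.rel_exists h𝒳 hB θ hθ k q hq
  obtain ⟨top, htop, -⟩ := existsUnique_glueHom J hR (A.π ≫ f) (fun Z k hk => (hex k hk).choose)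
    fun Z' Z g k hk hk' => D.rel_unique h𝒳 hB θ (hex (g ≫ k) hk').choose_spec
      (D.rel_comp h𝒳 θ g (hex k hk).choose_spec)
  have hloc : ∀ {Z : Over S} (k : Z ⟶ A.P), R (k ≫ A.π ≫ f) → D.Rel h𝒳 θ f k (k ≫ top) := fun k hk => by
    rw [htop k hk]
    exact (hex k hk).choose_spec
  have hπ : top ≫ B.π = A.π ≫ f :=
    hom_ext_of_cover J hR (A.π ≫ f) fun Z k hk => by rw [← Category.assoc, (hloc k hk).1]
  have hφ : top ≫ B.φ = A.φ := hom_ext_of_cover J hR (A.π ≫ f) fun Z k hk => by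
    obtain ⟨-, e, -⟩ := hloc k hk
    rw [← Category.assoc, e]
  refine ⟨top, fun {Z} k => ?_⟩
  have e : k ≫ A.φ = (k ≫ top) ≫ B.φ := by rw [Category.assoc, hφ]
  refine ⟨by rw [Category.assoc, hπ], e, ?_⟩
  refine arrow_ext h𝒳 (D.obj_p (k ≫ A.φ)) (J.pullback_stable (k ≫ A.π ≫ f) hR) _ _
    (by rw [𝒳.p.map_comp, 𝒳.p.map_comp, inj_p, inj_p, hθ, eqToHom_map]; simp [reassoc_of% hπ]) fun V l hl => ?_
  have hl' : R ((l ≫ k) ≫ A.π ≫ f) := by rw [Category.assoc]; exact hl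
  obtain ⟨-, e', he'⟩ := hloc (l ≫ k) hl'
  have hsA : smulPt A.act 1 (l ≫ k) = l ≫ k := smulPt_one _ _
  have hsB : smulPt B.act 1 ((l ≫ k) ≫ top) = l ≫ k ≫ top := by rw [smulPt_one, Category.assoc]
  refine ⟨_, D.map ((l ≫ k) ≫ A.φ) (k ≫ A.φ) l 1 (φ_of_smul A hsA),
    lift_mk _ (D.obj_p _) (D.obj_p _) (D.map_p _ _ _ _ _), ?_⟩
  conv_rhs => rw [← Category.assoc, ← D.E_eq A (l ≫ k) k l (Category.assoc _ _ _).symm hsA, inj_E, ← he',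
    ← D.inj_E B h𝒳 ((l ≫ k) ≫ top) (k ≫ top) l (by simp), D.E_eq B _ _ l _ hsB]
  rw [← Category.assoc, ← Category.assoc, D.map_congr e' e rfl rfl _ (φ_of_smul B hsB)]

end Full

include hB in
/-- The descended functor is fully faithful. -/
theorem fullyFaithful [(QuotSh.J K S).Subcanonical] [K.IsStableUnderBaseChange] [K.HasIsos] :
    (D.functor h𝒳).toFunctor.Full ∧ (D.functor h𝒳).toFunctor.Faithful := by
  haveI := fibGrpd_isFibered (isFibGrpd G K aX)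
  refine fullyFaithful_of_vert (D.functor h𝒳) (fun a b ψ _ => h𝒳.1.isStronglyCartesian _) fun A B e θ hθ => ?_
  change D.glued A h𝒳 ⟶ D.glued B h𝒳 at θ
  change A.base = B.base at e
  have hp : 𝒳.p.map θ = eqToHom (D.glued_p A h𝒳) ≫ eqToHom e ≫ eqToHom (D.glued_p B h𝒳).symm := by
    rw [hθ]
    simp
  obtain ⟨top, htop⟩ := D.exists_top h𝒳 hB θ hp
  have hπ : top ≫ B.π = A.π ≫ eqToHom e := by simpa using (htop (𝟙 A.P)).1
  have hφ : top ≫ B.φ = A.φ := by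
    obtain ⟨-, e', -⟩ := htop (𝟙 A.P)
    simpa using e'.symm
  -- the inverse
  have : IsIso (𝒳.p.map θ) := by rw [hp]; infer_instance
  have := fibGrpd_isIso h𝒳.1 θ
  have hp' : 𝒳.p.map (CategoryTheory.inv θ) =
      eqToHom (D.glued_p B h𝒳) ≫ eqToHom e.symm ≫ eqToHom (D.glued_p A h𝒳).symm := by
    rw [Functor.map_inv, IsIso.inv_eq_of_hom_inv_id]
    rw [hp]
    simp
  obtain ⟨top', htop'⟩ := D.exists_top h𝒳 hB (CategoryTheory.inv θ) hp'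
  have hinv : ∀ (A B : AlgSt.QuotObj K G aX) (e : A.base = B.base) (θ : D.glued A h𝒳 ⟶ D.glued B h𝒳)
      (θ' : D.glued B h𝒳 ⟶ D.glued A h𝒳), θ ≫ θ' = 𝟙 _ →
      ∀ (t : A.P ⟶ B.P) (t' : B.P ⟶ A.P), (∀ {Z : Over S} (k : Z ⟶ A.P), D.Rel h𝒳 θ (eqToHom e) k (k ≫ t)) →
        (∀ {Z : Over S} (k : Z ⟶ B.P), D.Rel h𝒳 θ' (eqToHom e.symm) k (k ≫ t')) → t ≫ t' = 𝟙 _ := by
    intro A B e θ θ' hh t t' ht ht'
    obtain ⟨a1, a2, a3⟩ := ht (𝟙 A.P)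
    obtain ⟨b1, b2, b3⟩ := ht' (𝟙 A.P ≫ t)
    have hπ' : (𝟙 A.P ≫ t ≫ t') ≫ A.π = 𝟙 A.P ≫ A.π := by
      rw [← Category.assoc (𝟙 A.P), b1, ← Category.assoc (𝟙 A.P ≫ t), a1]
      simp
    refine (((Category.id_comp _).symm.trans (D.eq_of_inj h𝒳 hB (𝟙 A.P ≫ t ≫ t') (𝟙 A.P) hπ' ?_ ?_)))
    · rw [← Category.assoc (𝟙 A.P) t t', ← b2, ← a2]
    · have hc : eqToHom (congrArg D.obj a2) ≫ eqToHom (congrArg D.obj b2) ≫ D.inj A h𝒳 ((𝟙 A.P ≫ t) ≫ t') =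
          D.inj A h𝒳 (𝟙 A.P) := by
        rw [b3, ← Category.assoc, a3, Category.assoc, hh, Category.comp_id]
      rw [← hc, ← D.inj_congr A h𝒳 (show (𝟙 A.P ≫ t) ≫ t' = 𝟙 A.P ≫ t ≫ t' from Category.assoc _ _ _)]
      simp
  have : IsIso top := ⟨⟨top', hinv A B e θ _ (IsIso.hom_inv_id θ) top top' htop htop',
    hinv B A e.symm _ θ (IsIso.inv_hom_id θ) top' top htop' htop⟩⟩
  have heqv : A.act.act ≫ top = (G ◁ top) ≫ B.act.act := by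
    have h1 := htop (smulPt A.act (fst G A.P) (snd G A.P))
    have h2 := D.rel_smul h𝒳 θ (fst G A.P) (htop (snd G A.P))
    have h3 := D.rel_unique h𝒳 hB θ h1 h2
    rw [show smulPt A.act (fst G A.P) (snd G A.P) = A.act.act by
      show lift (fst G A.P) (snd G A.P) ≫ A.act.act = _
      rw [lift_fst_snd, Category.id_comp]] at h3
    rw [h3, whiskerLeft_eq]
  let σ : A ⟶ B :=
    { base := eqToHom e, top := top, eqv := heqv, cart := IsPullback.of_horiz_isIso ⟨hπ⟩, wφ := hφ }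
  refine ⟨σ, ⟨rfl, (D.gMap_unique h𝒳 σ θ (by rw [hp]) fun {Z} p => ?_).symm⟩, fun σ' ⟨hb, hm⟩ => ?_⟩
  · obtain ⟨-, e', he'⟩ := htop p
    exact he'.symm
  · refine AlgSt.QuotObj.hom_ext hb ?_
    have hm' : D.gMap h𝒳 σ' = θ := hm
    have h1 : D.Rel h𝒳 θ (eqToHom e) (𝟙 A.P) (𝟙 A.P ≫ σ'.top) := by
      refine ⟨?_, by rw [Category.assoc, σ'.wφ], ?_⟩
      · change σ'.base = eqToHom e at hb
        rw [Category.assoc, σ'.cart.w, hb]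
      · rw [← hm', inj_gMap]
    have := D.rel_unique h𝒳 hB θ h1 (htop (𝟙 A.P))
    rwa [Category.id_comp, Category.id_comp] at this

end Groth.Agent.Stk19b.Quot.ActDatum
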